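import Cfsg.Agent.Lib.RootClass.InvolClass
import Cfsg.Agent.Lib.GoodInvol.Basic

/-!
Root involutions acting so that every member fixes one point and commuting members fix the same one.
-/

set_option autoImplicit false
set_option linter.style.haveILetI false
set_option linter.unusedSectionVars false

namespace Cfsg.Agent.RootConn

open Subgroup MulAction

universe u v

/-- Root involutions with a triangle, each fixing one of at least two points, commuting members the same one. -/
structure Cfg {G : Type u} [Group G] (D : Set G) (Ω : Type v) [MulAction G Ω] : Prop where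
  root : Cfsg.IsRootInvolutionSet D
  tri : ∃ a b : G, RootInvol.Tri D a b
  two : ∃ x y : Ω, x ≠ y
  cover : ∀ x : Ω, ∃ d ∈ D, d • x = x
  fix : ∀ d ∈ D, ∃ x : Ω, d • x = x
  unique : ∀ d ∈ D, ∀ x y : Ω, d • x = x → d • y = y → x = y
  comm : ∀ d ∈ D, ∀ e ∈ D, d * e = e * d → ∀ x : Ω, d • x = x → e • x = x

variable {G : Type u} [Group G] [Finite G] {D : Set G} {Ω : Type v} [MulAction G Ω]

theorem conj_fix {d : G} {x : Ω} (hd : d • x = x) (g : G) : (g * d * g⁻¹) • g • x = g • x := by
  rw [smul_smul, inv_mul_cancel_right, mul_smul, hd]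

theorem sandwich {v : G} (hv : orderOf v = 2) (d : G) : v * d * v⁻¹ = v * d * v := by
  rw [Invol.inv_self hv]

namespace Cfg

variable (h : Cfg D Ω)
include h

theorem ord {d : G} (hd : d ∈ D) : orderOf d = 2 := h.root.orderOf_eq d hd

theorem mul_self {d : G} (hd : d ∈ D) : d * d = 1 := Invol.mul_self (h.ord hd)

theorem conj3 {d v : G} (hd : d ∈ D) (hv : v ∈ D) : v * d * v ∈ D := RootInvol.conj3 h.root hd hv

theorem smul_smul_self {d : G} (hd : d ∈ D) (x : Ω) : d • d • x = x := by
  rw [smul_smul, h.mul_self hd, one_smul]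

theorem exists_ne (x : Ω) : ∃ y : Ω, y ≠ x := by
  obtain ⟨a, b, hab⟩ := h.two
  by_cases e : a = x
  · exact ⟨b, fun e' => hab (e.trans e'.symm)⟩
  · exact ⟨a, e⟩

theorem odd_of_ne {d e : G} (hd : d ∈ D) (he : e ∈ D) {x y : Ω} (hx : d • x = x) (hy : e • y = y)
    (hxy : x ≠ y) : Odd (orderOf (d * e)) := by
  rcases RootInvol.pair3 h.root hd he with h' | h' | h'
  · exact absurd (h.unique e he x y (h.comm d hd e he h' x hx) hy) hxy
  · exact h'.2
  · have t1 := (RootInvol.four_tri h.root hd he h').2.2.1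
    have t2 := (RootInvol.four_tri h.root he hd h'.symm).2.2.1
    rw [RootInvol.four_sq_eq h.root hd he h'] at t2
    have hs := h.comm d hd _ t1.right t1.comm x hx
    exact absurd (h.unique _ t1.right x y hs (h.comm e he _ t2.right t2.comm y hy)) hxy

/-- Members with product of odd order are conjugate by a member of the group they generate. -/
theorem exists_mid {d e : G} (hd : d ∈ D) (he : e ∈ D) (ho : Odd (orderOf (d * e))) :
    ∃ v ∈ D, v * d * v = e ∧ ∀ i : G, Commute i d → Commute i e → Commute i v := by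
  obtain ⟨k, hk⟩ := ho
  have hd1 := h.mul_self hd
  have hkk : (e * d) ^ (k + 1) = (d * e) ^ k := by
    rw [show e * d = (d * e)⁻¹ by rw [mul_inv_rev, Invol.inv_self (h.ord hd), Invol.inv_self (h.ord he)],
      inv_pow]
    exact inv_eq_of_mul_eq_one_right (by rw [← pow_add, show k + 1 + k = orderOf (d * e) by omega,
      pow_orderOf_eq_one])
  refine ⟨(d * e) ^ k * d, hkk ▸ RootInvol.pow_mul_mem h.root hd he (k + 1), ?_,
    fun i h1 h2 => ((h1.mul_right h2).pow_right k).mul_right h1⟩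
  have h1 : (d * e) ^ k * d * d * ((d * e) ^ k * d) = (d * e) ^ (2 * k) * d := by
    rw [mul_assoc ((d * e) ^ k) d d, hd1, mul_one, ← mul_assoc, ← pow_add, two_mul]
  rw [h1]
  have h2 : (d * e) ^ (2 * k) * (d * e) = 1 := by rw [← pow_succ, ← hk, pow_orderOf_eq_one]
  calc (d * e) ^ (2 * k) * d = (d * e) ^ (2 * k) * (d * e) * e := by
        rw [mul_assoc, mul_assoc, h.mul_self he, mul_one]
    _ = e := by rw [h2, one_mul]

theorem mid_smul {d e v : G} (he : e ∈ D) (hv : v ∈ D) (hde : v * d * v = e) {x y : Ω} (hx : d • x = x)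
    (hy : e • y = y) : v • x = y := by
  refine h.unique e he _ _ ?_ hy
  rw [← hde, mul_smul, h.smul_smul_self hv, mul_smul, hx]

theorem exists_mid_ne {d e : G} (hd : d ∈ D) (he : e ∈ D) {x y : Ω} (hx : d • x = x) (hy : e • y = y)
    (hxy : x ≠ y) :
    ∃ v ∈ D, v * d * v = e ∧ v • x = y ∧ v • y = x ∧ ∀ i : G, Commute i d → Commute i e → Commute i v := by
  obtain ⟨v, hv, hde, hc⟩ := h.exists_mid hd he (h.odd_of_ne hd he hx hy hxy)
  have h1 := h.mid_smul he hv hde hx hy
  exact ⟨v, hv, hde, h1, by rw [← h1, h.smul_smul_self hv], hc⟩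

/-- Members at a point are conjugate fixing it, centralising whatever centralises them and a member elsewhere. -/
theorem conj_in {p q e i : G} (hp : p ∈ D) (hq : q ∈ D) (he : e ∈ D) {x y : Ω} (hpx : p • x = x)
    (hqx : q • x = x) (hey : e • y = y) (hxy : x ≠ y) (hip : Commute i p) (hiq : Commute i q)
    (hie : Commute i e) : ∃ g : G, Commute i g ∧ g • x = x ∧ g * p * g⁻¹ = q := by
  obtain ⟨v, hv, hpe, hvx, -, hvc⟩ := h.exists_mid_ne hp he hpx hey hxy
  obtain ⟨w, hw, hqe, hwx, hwy, hwc⟩ := h.exists_mid_ne hq he hqx hey hxy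
  refine ⟨w * v, (hwc i hiq hie).mul_right (hvc i hip hie), by rw [mul_smul, hvx, hwy], ?_⟩
  have e1 : w * e * w = q := by
    rw [← hqe, ← mul_assoc, ← mul_assoc, h.mul_self hw, one_mul, mul_assoc, h.mul_self hw, mul_one]
  rw [mul_inv_rev, Invol.inv_self (h.ord hv), Invol.inv_self (h.ord hw)]
  calc w * v * p * (v * w) = w * (v * p * v) * w := by simp only [mul_assoc]
    _ = q := by rw [hpe, e1]

theorem all_conj {d e : G} (hd : d ∈ D) (he : e ∈ D) : ∃ g : G, g * d * g⁻¹ = e := by
  obtain ⟨x, hx⟩ := h.fix d hd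
  obtain ⟨y, hy⟩ := h.fix e he
  by_cases hxy : x = y
  · obtain ⟨z, hz⟩ := h.exists_ne x
    obtain ⟨f, hf, hfz⟩ := h.cover z
    obtain ⟨g, -, -, hg⟩ := h.conj_in hd he hf hx (hxy ▸ hy) hfz hz.symm (Commute.one_left d)
      (Commute.one_left e) (Commute.one_left f)
    exact ⟨g, hg⟩
  · obtain ⟨v, hv, hde, -⟩ := h.exists_mid_ne hd he hx hy hxy
    exact ⟨v, by rw [sandwich (h.ord hv), hde]⟩

theorem trans_smul (x y : Ω) : ∃ g : G, g • x = y := by
  by_cases hxy : x = y
  · exact ⟨1, by rw [one_smul, hxy]⟩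
  obtain ⟨d, hd, hdx⟩ := h.cover x
  obtain ⟨e, he, hey⟩ := h.cover y
  obtain ⟨v, -, -, hv, -⟩ := h.exists_mid_ne hd he hdx hey hxy
  exact ⟨v, hv⟩

theorem eq_one_of_central [FaithfulSMul G Ω] {y : G} (hy : ∀ g : G, Commute y g) {x : Ω} (hx : y • x = x) :
    y = 1 :=
  FaithfulSMul.eq_of_smul_eq_smul fun z : Ω => by
    obtain ⟨g, rfl⟩ := h.trans_smul x z
    rw [one_smul, smul_smul, (hy g).eq, mul_smul, hx]

theorem odd_card [Finite Ω] : Odd (Nat.card Ω) := by
  classical
  obtain ⟨a, b, t⟩ := h.tri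
  obtain ⟨x, hx⟩ := h.fix a t.left
  have hev := GoodInvol.even_ncard_of_invol (s := ({x}ᶜ : Set Ω)) (Set.toFinite _) (fun y => a • y)
    (fun y hy e => hy (MulAction.injective a (e.trans hx.symm))) (fun y _ => h.smul_smul_self t.left y)
    fun y hy e => hy (h.unique a t.left y x e hx)
  rw [← Set.ncard_add_ncard_compl ({x} : Set Ω), Set.ncard_singleton]
  exact hev.one_add

theorem prod_order {d e : G} (hd : d ∈ D) (he : e ∈ D) (hde : d * e = e * d) (hne : d ≠ e) :
    orderOf (d * e) = 2 := by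
  refine Invol.order_two_of_sq ?_ fun e1 => hne ?_
  · rw [← pow_two]; exact RootInvol.comm_sq h.root hd he hde
  · exact (mul_eq_one_iff_eq_inv.1 e1).trans (Invol.inv_self (h.ord he))

/-- The product of two commuting members at a point commutes with members at that point only. -/
theorem fix_of_commute_prod {d e f : G} (hd : d ∈ D) (he : e ∈ D) (hde : d * e = e * d) (hne : d ≠ e)
    (hf : f ∈ D) (hfu : Commute f (d * e)) {x : Ω} (hx : d • x = x) : f • x = x := by
  obtain ⟨y, hy⟩ := h.fix f hf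
  by_contra hfx
  have hyx : y ≠ x := fun e1 => hfx (e1 ▸ hy)
  have hu := h.prod_order hd he hde hne
  have hdu : Commute d (d * e) := (Commute.refl d).mul_right hde
  have hod := h.odd_of_ne hf hd hy hx hyx
  have hord := (hfu.mul_left hdu).orderOf_mul_eq_mul_orderOf_of_coprime
    (by rw [hu]; exact Nat.coprime_two_right.2 hod)
  have e1 : f * d * (d * e) = f * e := by
    rw [mul_assoc, ← mul_assoc d d e, h.mul_self hd, one_mul]
  rw [e1, hu] at hord
  have := h.odd_of_ne hf he hy (h.comm d hd e he hde x hx) hyx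
  rw [hord] at this
  exact Nat.not_even_iff_odd.2 this (even_two.mul_left _)

theorem cent_prod {d e c : G} (hd : d ∈ D) (he : e ∈ D) (hde : d * e = e * d) (hne : d ≠ e)
    (hc : Commute c (d * e)) {x : Ω} (hx : d • x = x) : c • x = x := by
  have hdu : Commute d (d * e) := (Commute.refl d).mul_right hde
  have hf : c * d * c⁻¹ ∈ D := h.root.conj_mem d hd c
  exact h.unique _ hf _ _ (conj_fix hx c)
    (h.fix_of_commute_prod hd he hde hne hf ((hc.mul_left hdu).mul_left hc.inv_left) hx)

/-- A member is determined by the image of a member at a point it moves. -/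
theorem mid_unique {f v v' : G} (hf : f ∈ D) (hv : v ∈ D) (hv' : v' ∈ D) {p : Ω} (hfp : f • p = p)
    (hvp : v • p ≠ p) (hv'p : v' • p ≠ p) (he : v * f * v = v' * f * v') : v = v' := by
  have hmem : ∀ t : {t // t ∈ D ∧ t • p ≠ p}, t.1 * f * t.1 ∈ D ∧ (t.1 * f * t.1) • p ≠ p := by
    rintro ⟨t, ht, htp⟩
    refine ⟨h.conj3 hf ht, fun e1 => htp (h.unique _ (h.conj3 hf ht) _ _ ?_ e1)⟩
    rw [mul_smul, h.smul_smul_self ht, mul_smul, hfp]
  let Φ : {t // t ∈ D ∧ t • p ≠ p} → {t // t ∈ D ∧ t • p ≠ p} := fun t => ⟨_, hmem t⟩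
  have hsurj : Function.Surjective Φ := by
    rintro ⟨e, he', hep⟩
    obtain ⟨y, hy⟩ := h.fix e he'
    have hpy : p ≠ y := fun e1 => hep (by rw [e1]; exact hy)
    obtain ⟨t, ht, hte, htp, -⟩ := h.exists_mid_ne hf he' hfp hy hpy
    exact ⟨⟨t, ht, by rw [htp]; exact hpy.symm⟩, Subtype.ext hte⟩
  exact congrArg Subtype.val
    (Finite.injective_iff_surjective.2 hsurj (a₁ := ⟨v, hv, hvp⟩) (a₂ := ⟨v', hv', hv'p⟩) (Subtype.ext he))

/-- An involution centralised only in the stabiliser of `x` splits at a member of a point it moves. -/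
theorem half_member {z : G} (hz : orderOf z = 2) (hzD : z ∉ D) {x : Ω}
    (hC : ∀ c : G, Commute c z → c • x = x) {e : G} (he : e ∈ D) {y : Ω} (hy : e • y = y)
    (hzy : z • y ≠ y) : ∃ d ∈ D, Commute d z ∧ d • x = x ∧ Commute e (z * d) := by
  have he2 := h.ord he
  have hev : Even (orderOf (e * z)) := by
    rw [← Nat.not_odd_iff_even]
    intro ho
    obtain ⟨g, -, hg⟩ := Invol.conj_of_odd he2 hz ho
    exact hzD (hg ▸ h.root.conj_mem e he g)
  obtain ⟨hce, hcz⟩ := Invol.half_commute he2 hz hev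
  set w := (e * z) ^ (orderOf (e * z) / 2) with hwdef
  have hw2 : orderOf w = 2 := Invol.half_order he2 hz hev (orderOf_pos _)
  by_cases h4 : 4 ∣ orderOf (e * z)
  · exfalso
    obtain ⟨g, -, hg⟩ := Invol.conj_mul_half_of_four_dvd he2 hz h4
    have hew : e * w ∈ D := hg ▸ h.root.conj_mem e he g
    have hne : e ≠ e * w := fun e1 => Invol.ne_one hw2 (mul_left_cancel (a := e) (by rw [← e1, mul_one]))
    have hcomm : e * (e * w) = e * w * e := by rw [mul_assoc e w e, hce.eq]
    have hzc : Commute z (e * (e * w)) := by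
      rw [← mul_assoc, h.mul_self he, one_mul]; exact hcz.symm
    exact hzy (h.cent_prod he hew hcomm hne hzc hy)
  · have hsw : orderOf (z * e) = orderOf (e * z) := RootInvol.orderOf_mul_swap e z
    obtain ⟨g, -, hg⟩ := Invol.conj_y_mul_half hz he2 (hsw ▸ hev) (hsw ▸ h4)
    have hww : (z * e) ^ (orderOf (z * e) / 2) = w := by
      rw [hsw, show z * e = (e * z)⁻¹ by rw [mul_inv_rev, Invol.inv_self he2, Invol.inv_self hz], inv_pow]
      exact Invol.inv_self hw2
    rw [hww] at hg
    have hd : z * w ∈ D := hg ▸ h.root.conj_mem e he g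
    have hdz : Commute (z * w) z := (Commute.refl z).mul_left hcz
    refine ⟨z * w, hd, hdz, hC _ hdz, ?_⟩
    rw [← mul_assoc, Invol.mul_self hz, one_mul]
    exact hce.symm

/-- An element whose centraliser fixes `x` is no conjugate under the stabiliser of one centralising members at two
points. -/
theorem no_fuse {u w d e k : G} {x y : Ω} (hu : ∀ c : G, Commute c u → c • x = x) (hd : d ∈ D)
    (hdx : d • x = x) (hdw : Commute w d) (he : e ∈ D) (hey : e • y = y) (hew : Commute w e) (hxy : x ≠ y)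
    (hk : k • x = x) (hkw : k * w * k⁻¹ = u) : False := by
  obtain ⟨v, -, -, hvx, -, hvc⟩ := h.exists_mid_ne hd he hdx hey hxy
  have hc : Commute (k * v * k⁻¹) u := by
    rw [← hkw]
    exact (hvc w hdw hew).symm.map (MulAut.conj k)
  have := hu _ hc
  rw [mul_smul, mul_smul, inv_smul_eq_iff.2 hk.symm, hvx] at this
  exact hxy (MulAction.injective k (hk.trans this.symm))

theorem ncard_eq (x : Ω) : D.ncard = Nat.card Ω * {d ∈ D | d • x = x}.ncard := by
  classical
  choose g hg using fun y => h.trans_smul x y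
  have hback : ∀ (y : Ω) (d : G), d • x = x → (g y * d * (g y)⁻¹) • y = y := fun y d hd => by
    have := conj_fix hd (g y); rwa [hg y] at this
  let f : Ω × {d // d ∈ D ∧ d • x = x} → {d // d ∈ D} :=
    fun p => ⟨g p.1 * p.2.1 * (g p.1)⁻¹, h.root.conj_mem _ p.2.2.1 _⟩
  have hf : Function.Bijective f := by
    constructor
    · rintro ⟨y, d, hd, hdx⟩ ⟨y', d', hd', hd'x⟩ e
      have e1 : g y * d * (g y)⁻¹ = g y' * d' * (g y')⁻¹ := congrArg Subtype.val e
      obtain rfl : y = y' := h.unique _ (h.root.conj_mem d hd (g y)) _ _ (hback y d hdx)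
        (by rw [e1]; exact hback y' d' hd'x)
      obtain rfl : d = d' := by simpa using e1
      rfl
    · rintro ⟨d, hd⟩
      obtain ⟨y, hy⟩ := h.fix d hd
      have hd' : (g y)⁻¹ * d * g y ∈ D := by simpa using h.root.conj_mem d hd (g y)⁻¹
      refine ⟨⟨y, (g y)⁻¹ * d * g y, hd', ?_⟩, Subtype.ext ?_⟩
      · rw [mul_smul, mul_smul, hg y, hy, inv_smul_eq_iff, hg y]
      · show g y * ((g y)⁻¹ * d * g y) * (g y)⁻¹ = d
        group
  have := Nat.card_eq_of_bijective f hf
  rw [Nat.card_prod] at this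
  exact this.symm

theorem odd_at [Finite Ω] (ho : Odd D.ncard) (x : Ω) : Odd {d ∈ D | d • x = x}.ncard := by
  rw [h.ncard_eq x] at ho
  exact (Nat.odd_mul.1 ho).2

end Cfg

end Cfsg.Agent.RootConn
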