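import Cfsg.Agent.Lib.RootConn.Main
import Cfsg.Agent.Lib.SEMain.Simple
import Cfsg.Prelude.Def_QuasithinSetup

/-!
The group modulo its centre modulo `O₂` is one of the three families of rank one.
-/

set_option autoImplicit false
set_option linter.style.haveILetI false
set_option linter.unusedSectionVars false

namespace Cfsg.Agent.RootConn

open Subgroup MulAction

universe u

variable {G : Type u} [Group G] [Finite G] {D : Set G} {Ω : Type u} [MulAction G Ω]

/-- A normal subgroup in which the conjugates of each member commute is central modulo `O₂`. -/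
theorem le_twoZCore (hD : Cfsg.IsRootInvolutionSet D) (N : Subgroup G) [hN : N.Normal]
    (hcomm : ∀ d ∈ D, ∀ x ∈ N, d * (x * d * x⁻¹) = x * d * x⁻¹ * d) : N ≤ Cfsg.twoZCore G := by
  haveI : Fact (Nat.Prime 2) := ⟨Nat.prime_two⟩
  haveI hRc := Cfsg.Agent.PBasic.pCore_characteristic 2 G
  haveI hRn : (Cfsg.pCore 2 G).Normal := inferInstance
  have hmem : ∀ d ∈ D, ∀ x ∈ N, d * (x * d * x⁻¹) ∈ N := fun d hd x hx => by
    have := mul_mem (hN.conj_mem x hx d) (inv_mem hx)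
    rwa [RootInvol.inv_eq hD hd, mul_assoc, mul_assoc, ← mul_assoc x d] at this
  have inR : ∀ d ∈ D, ∀ x ∈ N, d * (x * d * x⁻¹) ∈ Cfsg.pCore 2 G := by
    intro d hd x hx
    have pc : ∀ u ∈ N, ∀ v ∈ N, Commute (u * d * u⁻¹) (v * d * v⁻¹) := by
      intro u hu v hv
      have h := congrArg (fun w => u * w * u⁻¹) (hcomm d hd (u⁻¹ * v) (mul_mem (inv_mem hu) hv))
      show _ = _
      simpa [mul_assoc] using h
    set q : ↥N := ⟨d * (x * d * x⁻¹), hmem d hd x hx⟩ with hq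
    suffices h : q ∈ Cfsg.pCore 2 ↥N by
      haveI := PBasic.pCore_characteristic 2 ↥N
      exact PBasic.le_pCore (inferInstance : ((Cfsg.pCore 2 ↥N).map N.subtype).Normal)
        ((PBasic.pCore_isPGroup 2 ↥N).map N.subtype) ⟨q, h, rfl⟩
    by_cases hq1 : q = 1
    · rw [hq1]; exact one_mem _
    have c0 : Commute d (x * d * x⁻¹) := hcomm d hd x hx
    have hd' : x * d * x⁻¹ ∈ D := hD.conj_mem d hd x
    refine RootInvol.mem_pCore_two (orderOf_eq_prime (Subtype.ext
      (RootInvol.comm_sq hD hd hd' c0.eq)) hq1) fun g => Subtype.ext ?_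
    show (d * (x * d * x⁻¹) * (g * (d * (x * d * x⁻¹)) * (g : G)⁻¹)) ^ 4 = 1
    have e : (g : G) * (d * (x * d * x⁻¹)) * (g : G)⁻¹ =
        (g * d * (g : G)⁻¹) * ((g * x) * d * ((g : G) * x)⁻¹) := by simp [mul_assoc]
    have s2 : ∀ u : G, (u * d * u⁻¹) * (u * d * u⁻¹) = 1 := fun u => RootInvol.sq hD (hD.conj_mem d hd u)
    have k0 : ∀ v ∈ N, Commute d (v * d * v⁻¹) := fun v hv => by simpa using pc 1 (one_mem _) v hv
    have hgx := mul_mem g.2 hx
    have cgg : Commute (g * d * (g : G)⁻¹) ((g * x) * d * ((g : G) * x)⁻¹) := pc _ g.2 _ hgx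
    have hsq : ((d * (x * d * x⁻¹)) * ((g * d * (g : G)⁻¹) * ((g * x) * d * ((g : G) * x)⁻¹))) ^ 2 = 1 := by
      rw [(((k0 _ g.2).mul_right (k0 _ hgx)).mul_left ((pc x hx _ g.2).mul_right (pc x hx _ hgx))).mul_pow,
        c0.mul_pow, cgg.mul_pow]
      simp only [pow_two, s2, RootInvol.sq hD hd, one_mul]
    rw [e, show (4 : ℕ) = 2 * 2 from rfl, pow_mul, hsq, one_pow]
  intro x hx
  show QuotientGroup.mk' (Cfsg.pCore 2 G) x ∈ Subgroup.center _
  rw [Subgroup.mem_center_iff]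
  intro g
  obtain ⟨g, rfl⟩ := QuotientGroup.mk'_surjective _ g
  have hle : ⊤ ≤ (Subgroup.centralizer {QuotientGroup.mk' (Cfsg.pCore 2 G) x}).comap
      (QuotientGroup.mk' (Cfsg.pCore 2 G)) := by
    rw [← hD.generates, Subgroup.closure_le]
    intro d hd
    simp only [SetLike.mem_coe, Subgroup.mem_comap, Subgroup.mem_centralizer_singleton_iff]
    rw [← map_mul, ← map_mul]
    refine QuotientGroup.eq.2 ?_
    have h := hRn.conj_mem _ (inR d hd x hx) (x⁻¹)
    rwa [mul_inv_rev, RootInvol.inv_eq hD hd, show x⁻¹ * d * (x * d) = x⁻¹ * (d * (x * d * x⁻¹)) * x⁻¹⁻¹ by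
      simp [mul_assoc]]
  exact Subgroup.mem_centralizer_singleton_iff.1 (hle (Subgroup.mem_top g))

variable (h : Cfg D Ω)
include h

theorem Cfg.twoZCore_eq : Cfsg.twoZCore G = (MulAction.toPermHom G Ω).ker := by
  haveI : Fact (Nat.Prime 2) := ⟨Nat.prime_two⟩
  haveI := h.finite_pts
  haveI hRc := Cfsg.Agent.PBasic.pCore_characteristic 2 G
  haveI hRn : (Cfsg.pCore 2 G).Normal := inferInstance
  refine le_antisymm (fun x hx => MonoidHom.mem_ker.2 (Equiv.ext fun z => ?_))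
    (le_twoZCore h.root _ fun d hd x hx => ?_)
  · -- a 2-core fixes every point, so its centraliser does
    have hQ : ∀ q ∈ Cfsg.pCore 2 G, ∀ w : Ω, q • w = w := by
      intro q hq w
      obtain ⟨p, hp⟩ := (PBasic.pCore_isPGroup 2 G).nonempty_fixed_point_of_prime_not_dvd_card Ω (by
        rw [← even_iff_two_dvd, Nat.not_even_iff_odd]; exact h.odd_card)
      obtain ⟨g, rfl⟩ := h.trans_smul p w
      have := hp ⟨g⁻¹ * q * g, by simpa using hRn.conj_mem q hq g⁻¹⟩
      change (g⁻¹ * q * g) • p = p at this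
      rwa [mul_smul, mul_smul, inv_smul_eq_iff] at this
    obtain ⟨d, hd, hdz⟩ := h.cover z
    show x • z = z
    refine h.unique d hd _ _ ?_ hdz
    have hc := Subgroup.mem_center_iff.1 (show QuotientGroup.mk' (Cfsg.pCore 2 G) x ∈ Subgroup.center _ from hx)
      (QuotientGroup.mk' (Cfsg.pCore 2 G) d)
    rw [← map_mul, ← map_mul] at hc
    have hm : (x * d)⁻¹ * (d * x) ∈ Cfsg.pCore 2 G := QuotientGroup.eq.1 hc.symm
    calc d • x • z = (x * d) • ((x * d)⁻¹ * (d * x)) • z := by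
          rw [← mul_smul, ← mul_smul, mul_inv_cancel_left]
      _ = x • z := by rw [hQ _ hm, mul_smul, hdz]
  · obtain ⟨z, hz⟩ := h.fix d hd
    have hxz : ∀ w : Ω, x • w = w := fun w => Equiv.congr_fun (MonoidHom.mem_ker.1 hx) w
    refine h.comm_at hd (h.root.conj_mem d hd x) hz ?_
    have := conj_fix hz x
    rwa [hxz] at this

theorem Cfg.bender :
    (∃ (F : Type) (_ : Field F) (_ : Fintype F), CharP F 2 ∧ 4 ≤ Fintype.card F ∧
      Nonempty (G ⧸ Cfsg.twoZCore G ≃* Matrix.ProjectiveSpecialLinearGroup (Fin 2) F)) ∨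
    Cfsg.Lie.IsoSuzuki (G ⧸ Cfsg.twoZCore G) ∨
    (∃ (F : Type) (_ : Field F) (_ : Fintype F) (q : ℕ), CharP F 2 ∧ Fintype.card F = q ^ 2 ∧ 4 ≤ q ∧
      Nonempty (G ⧸ Cfsg.twoZCore G ≃* Cfsg.PSU 3 F q)) := by
  haveI : Fact (Nat.Prime 2) := ⟨Nat.prime_two⟩
  haveI : Finite (MulAction.toPermHom G Ω).range :=
    Finite.of_surjective _ (MonoidHom.rangeRestrict_surjective _)
  have hi := h.image
  obtain ⟨x, hx⟩ := hi.hasPair
  obtain ⟨hse, hcore⟩ := hi.strongly_embedded hi.good.1 x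
  obtain ⟨L, hL, hodd, hB⟩ := SEMain.exists_bender SEMain.stmt hse hcore hx
  have hLt : L = ⊤ := by
    rw [eq_top_iff, ← hi.root.generates, Subgroup.closure_le]
    intro d hd
    rw [SetLike.mem_coe, ← QuotientGroup.eq_one_iff]
    refine Invol.eq_one_of_sq_of_odd (hodd.of_dvd_nat (orderOf_dvd_natCard _)) ?_
    rw [pow_two, ← QuotientGroup.mk_mul, hi.mul_self hd, QuotientGroup.mk_one]
  subst hLt
  let e : G ⧸ Cfsg.twoZCore G ≃* (MulAction.toPermHom G Ω).range :=
    (QuotientGroup.quotientMulEquivOfEq h.twoZCore_eq).trans (QuotientGroup.quotientKerEquivRange _)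
  have hB' := SEMain.isBender_congr (e.trans Subgroup.topEquiv.symm) hB
  rcases hB' with ⟨F, i1, i2, ⟨n, hn, hF⟩, f⟩ | hSz | ⟨F, i1, i2, n, hn, hF, f⟩
  · exact Or.inl ⟨F, i1, i2, charP_of_card_eq_prime_pow hF,
      by rw [hF]; exact le_trans (by norm_num) (Nat.pow_le_pow_right two_pos hn), f⟩
  · exact Or.inr (Or.inl hSz)
  · exact Or.inr (Or.inr ⟨F, i1, i2, 2 ^ n,
      charP_of_card_eq_prime_pow (f := n * 2) (by rw [hF, ← pow_mul]), hF,
      le_trans (by norm_num) (Nat.pow_le_pow_right two_pos hn), f⟩)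

end Cfsg.Agent.RootConn
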