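import Cfsg.Agent.Lib.RootConn.Main
import Cfsg.Agent.Lib.RootClass.InvolSame

/-!
Blocks holding the triangles and the products of order four, with commutation between blocks uniform: if some block
is not commutative, any two members in different blocks commute.
-/

set_option autoImplicit false
set_option linter.style.haveILetI false
set_option linter.unusedSectionVars false

namespace Cfsg.Agent.RootConn

open Subgroup MulAction

universe u

/-- An equivalence on the members: triangles and products of order four stay inside a block, commuting with one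
member of another block means commuting with all, and no block is commutative at any member. -/
structure Sys {G : Type u} [Group G] (D : Set G) (S : G → G → Prop) : Prop where
  root : Cfsg.IsRootInvolutionSet D
  refl : ∀ a ∈ D, S a a
  symm : ∀ a b, S a b → S b a
  trans : ∀ a b c, S a b → S b c → S a c
  conj : ∀ g a b, a ∈ D → b ∈ D → S a b → S (g * a * g⁻¹) (g * b * g⁻¹)
  four : ∀ a ∈ D, ∀ b ∈ D, RootInvol.Four a b → S a b
  unif : ∀ a ∈ D, ∀ a' ∈ D, ∀ b ∈ D, S a a' → a * b = b * a → ¬ S a b → a' * b = b * a'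
  tri : ∀ a ∈ D, ∃ b, RootInvol.Tri D a b
  trisame : ∀ a b, RootInvol.Tri D a b → S a b
  nc : ∀ a ∈ D, ∃ a' ∈ D, S a a' ∧ a * a' ≠ a' * a
  odd : ∃ a ∈ D, ∃ b ∈ D, ¬ (S a b ∨ a * b = b * a)

variable {G : Type u} [Group G] [Finite G] {D : Set G} {S : G → G → Prop}

/-- In one block or commuting. -/
abbrev Near (S : G → G → Prop) (a b : G) : Prop := S a b ∨ a * b = b * a

namespace Sys

variable (h : Sys D S)
include h

theorem near_symm {a b : G} (e : Near S a b) : Near S b a := e.imp (h.symm a b) Eq.symm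

theorem near_conj (g : G) {a b : G} (ha : a ∈ D) (hb : b ∈ D) (e : Near S a b) :
    Near S (g * a * g⁻¹) (g * b * g⁻¹) :=
  e.imp (h.conj g a b ha hb) fun e => ((show Commute a b from e).map (MulAut.conj g)).eq

/-- When nearness is transitive its classes are points, and members at a point commute. -/
theorem false_of_trans
    (ht : ∀ a ∈ D, ∀ b ∈ D, ∀ c ∈ D, Near S a b → Near S b c → Near S a c) : False := by
  let cls : G → Set G := fun d => {e | e ∈ D ∧ Near S d e}
  have mem_self : ∀ {d : G}, d ∈ D → d ∈ cls d := fun hd => ⟨hd, Or.inl (h.refl _ hd)⟩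
  have cls_eq : ∀ {d e : G}, d ∈ D → e ∈ D → Near S d e → cls d = cls e := by
    intro d e hd he hde
    ext c
    exact ⟨fun hc => ⟨hc.1, ht e he d hd c hc.1 (h.near_symm hde) hc.2⟩,
      fun hc => ⟨hc.1, ht d hd e he c hc.1 hde hc.2⟩⟩
  have conj_cls : ∀ (g : G) {d : G}, d ∈ D → (fun c => g * c * g⁻¹) '' cls d = cls (g * d * g⁻¹) := by
    intro g d hd
    ext c
    constructor
    · rintro ⟨p, hp, rfl⟩
      exact ⟨h.root.conj_mem p hp.1 g, h.near_conj g hd hp.1 hp.2⟩
    · intro hc
      refine ⟨g⁻¹ * c * g, ⟨by simpa using h.root.conj_mem c hc.1 g⁻¹, ?_⟩, by group⟩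
      have := h.near_conj g⁻¹ (h.root.conj_mem d hd g) hc.1 hc.2
      simpa [mul_assoc] using this
  let Ω : Type u := {C : Set G // ∃ d ∈ D, cls d = C}
  letI act : MulAction G Ω :=
    { smul := fun g C => ⟨(fun c => g * c * g⁻¹) '' C.1, by
        obtain ⟨d, hd, hC⟩ := C.2
        exact ⟨g * d * g⁻¹, h.root.conj_mem d hd g, by rw [← hC, conj_cls g hd]⟩⟩
      one_smul := fun C => Subtype.ext (by show (fun c => (1 : G) * c * (1 : G)⁻¹) '' C.1 = C.1; simp)
      mul_smul := fun g k C => Subtype.ext (by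
        show (fun c => g * k * c * (g * k)⁻¹) '' C.1 = (fun c => g * c * g⁻¹) '' ((fun c => k * c * k⁻¹) '' C.1)
        rw [Set.image_image]
        simp [mul_assoc]) }
  let pt : ∀ d, d ∈ D → Ω := fun d hd => ⟨cls d, d, hd, rfl⟩
  have hsmul : ∀ (g d : G) (hd : d ∈ D), g • pt d hd = pt (g * d * g⁻¹) (h.root.conj_mem d hd g) :=
    fun g d hd => Subtype.ext (conj_cls g hd)
  have hfix : ∀ (d : G) (hd : d ∈ D), d • pt d hd = pt d hd := fun d hd => by
    rw [hsmul d d hd]
    exact Subtype.ext (by show cls (d * d * d⁻¹) = cls d; rw [mul_inv_cancel_right])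
  have huniq : ∀ d ∈ D, ∀ C : Ω, d • C = C → C.1 = cls d := by
    rintro d hd ⟨C, e, he, rfl⟩ hC
    by_contra hne
    have hnn : ¬ Near S d e := fun e1 => hne (cls_eq hd he e1).symm
    have ho : Odd (orderOf (d * e)) := by
      rcases RootInvol.pair3 h.root hd he with h' | h' | h'
      · exact absurd (Or.inr h') hnn
      · exact h'.2
      · exact absurd (Or.inl (h.four d hd e he h')) hnn
    obtain ⟨g, hg, hge⟩ := Invol.conj_of_odd (h.root.orderOf_eq d hd) (h.root.orderOf_eq e he) ho
    have hgC : g ∈ stabilizer G (pt e he) :=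
      (Subgroup.closure_le _).2 (by rintro _ (rfl | rfl); exacts [hC, hfix _ he]) hg
    have h2 : g • pt d hd = g • pt e he := by
      rw [mem_stabilizer_iff.1 hgC, hsmul g d hd]
      exact Subtype.ext (by show cls (g * d * g⁻¹) = cls e; rw [hge])
    exact hne (congrArg Subtype.val (MulAction.injective (β := Ω) g h2)).symm
  obtain ⟨a₀, ha₀, b₀, hb₀, hab⟩ := h.odd
  obtain ⟨b', tb⟩ := h.tri a₀ ha₀
  have hcfg : Cfg D Ω := by
    refine ⟨h.root, ⟨a₀, b', tb⟩, ⟨pt a₀ ha₀, pt b₀ hb₀, fun e => hab ?_⟩, ?_, fun d hd => ⟨_, hfix d hd⟩,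
      ?_, ?_⟩
    · have : b₀ ∈ cls a₀ := by
        rw [show cls a₀ = cls b₀ from congrArg Subtype.val e]; exact mem_self hb₀
      exact this.2
    · rintro ⟨C, d, hd, rfl⟩
      exact ⟨d, hd, hfix d hd⟩
    · intro d hd x y hx hy
      exact Subtype.ext ((huniq d hd x hx).trans (huniq d hd y hy).symm)
    · intro d hd e he hde x hx
      have e1 : x = pt e he := Subtype.ext ((huniq d hd x hx).trans (cls_eq hd he (Or.inr hde)))
      rw [e1]; exact hfix e he
  obtain ⟨a', ha', hS, hne⟩ := h.nc a₀ ha₀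
  refine hne (hcfg.comm_at ha₀ ha' (hfix a₀ ha₀) ?_)
  rw [show pt a₀ ha₀ = pt a' ha' from Subtype.ext (cls_eq ha₀ ha' (Or.inl hS))]
  exact hfix a' ha'

/-- The members of other blocks commuting with `b` form a smaller system. -/
theorem exists_smaller {a b c : G} (ha : a ∈ D) (hb : b ∈ D) (hc : c ∈ D) (hab : Near S a b) (hbc : Near S b c)
    (hac : ¬ Near S a c) :
    ∃ (G' : Type u) (_ : Group G') (_ : Finite G') (D' : Set G') (S' : G' → G' → Prop),
      D'.ncard < D.ncard ∧ Sys D' S' := by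
  have hnab : ¬ S a b := by
    intro e
    rcases hbc with hbc | hbc
    · exact hac (Or.inl (h.trans a b c e hbc))
    · by_cases hS : S b c
      · exact hac (Or.inl (h.trans a b c e hS))
      · exact hac (Or.inr (h.unif b hb a ha c hc (h.symm a b e) hbc hS))
  have hnbc : ¬ S b c := by
    intro e
    rcases hab with hab | hab
    · exact hnab hab
    · exact hac (Or.inr (h.unif b hb c hc a ha e hab.symm (fun e' => hnab (h.symm b a e'))).symm)
  set T : Set G := {e | e ∈ D ∧ e * b = b * e ∧ ¬ S e b} with hT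
  set H := Subgroup.closure T with hH
  have hHb : ∀ g ∈ H, Commute g b := fun g hg => by
    have := (Subgroup.closure_le (Subgroup.centralizer ({b} : Set G))).2
      (fun d hd => Subgroup.mem_centralizer_singleton_iff.2 hd.2.1) hg
    exact Subgroup.mem_centralizer_singleton_iff.1 this
  have hconjT : ∀ g ∈ H, ∀ e ∈ T, g * e * g⁻¹ ∈ T := by
    intro g hg e he
    refine ⟨h.root.conj_mem e he.1 g, (((hHb g hg).mul_left he.2.1).mul_left (hHb g hg).inv_left).eq,
      fun hS => he.2.2 ?_⟩
    have hgb : g⁻¹ * b * g⁻¹⁻¹ = b := by rw [((hHb g hg).inv_left).eq, mul_inv_cancel_right]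
    have := h.conj g⁻¹ _ b (h.root.conj_mem e he.1 g) hb hS
    rw [hgb] at this
    simpa [mul_assoc] using this
  have hsame : ∀ e ∈ T, ∀ f ∈ D, S e f → f ∈ T := fun e he f hf hS =>
    ⟨hf, h.unif e he.1 f hf b hb hS he.2.1 he.2.2, fun e' => he.2.2 (h.trans e f b hS e')⟩
  refine ⟨H, inferInstance, inferInstance, Subtype.val ⁻¹' T, fun p q => S p q, ?_, ⟨⟨?_, ?_, ?_, ?_⟩, ?_,
    fun p q => h.symm p q, fun p q r => h.trans p q r, ?_, ?_, ?_, ?_, ?_, ?_, ?_⟩⟩
  · rw [Set.ncard_preimage_of_injective_subset_range Subtype.val_injective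
      (fun e he => ⟨⟨e, Subgroup.subset_closure he⟩, rfl⟩)]
    refine Set.ncard_lt_ncard ⟨fun e he => he.1, fun hsub => ?_⟩ (Set.toFinite _)
    exact (hsub hb).2.2 (h.refl b hb)
  · intro d hd
    rw [← Subgroup.orderOf_coe]; exact h.root.orderOf_eq _ hd.1
  · exact Subgroup.closure_closure_coe_preimage
  · intro d hd g
    exact hconjT g g.2 _ hd
  · intro p hp q hq
    rcases h.root.pair p hp.1 q hq.1 with h' | h' | ⟨h', hs⟩
    · exact Or.inl (Subtype.ext h')
    · exact Or.inr (Or.inl (by rw [← Subgroup.orderOf_coe]; exact h'))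
    · refine Or.inr (Or.inr ⟨by rw [← Subgroup.orderOf_coe]; exact h', ?_⟩)
      exact hsame _ hp _ hs (h.trisame _ _ (RootInvol.four_tri h.root hp.1 hq.1 h').2.2.1)
  · exact fun p hp => h.refl _ hp.1
  · exact fun g p q hp hq e => h.conj g p q hp.1 hq.1 e
  · exact fun p hp q hq e => h.four _ hp.1 _ hq.1 (by
      unfold RootInvol.Four at e ⊢; rwa [← Subgroup.orderOf_coe] at e)
  · intro p hp p' hp' q hq hS hpq hn
    exact Subtype.ext (h.unif p hp.1 p' hp'.1 q hq.1 hS (congrArg Subtype.val hpq) hn)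
  · intro p hp
    obtain ⟨t, ht⟩ := h.tri p hp.1
    have h1 := hsame _ hp t ht.right (h.trisame _ _ ht)
    exact ⟨⟨t, Subgroup.subset_closure h1⟩, hp, h1, Subtype.ext ht.comm,
      hsame _ hp _ ht.mul_mem (h.trisame _ _ (RootInvol.Tri.third h.root ht))⟩
  · intro p q ht
    exact h.trisame _ _ ⟨ht.left.1, ht.right.1, congrArg Subtype.val ht.comm, ht.mul_mem.1⟩
  · intro p hp
    obtain ⟨t, htD, htS, htne⟩ := h.nc p hp.1
    have h1 := hsame _ hp t htD htS
    exact ⟨⟨t, Subgroup.subset_closure h1⟩, h1, htS, fun e => htne (congrArg Subtype.val e)⟩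
  · have hca : a * b = b * a := hab.resolve_left hnab
    have hcc : c * b = b * c := (hbc.resolve_left hnbc).symm
    exact ⟨⟨a, Subgroup.subset_closure ⟨ha, hca, hnab⟩⟩, ⟨ha, hca, hnab⟩,
      ⟨c, Subgroup.subset_closure ⟨hc, hcc, fun e => hnbc (h.symm c b e)⟩⟩,
      ⟨hc, hcc, fun e => hnbc (h.symm c b e)⟩,
      fun e => hac (e.imp id fun e => congrArg Subtype.val e)⟩

end Sys

theorem sys_false : ∀ (n : ℕ) (G : Type u) [Group G] [Finite G] (D : Set G) (S : G → G → Prop),
    D.ncard < n → ¬ Sys D S := by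
  intro n
  induction n with
  | zero => exact fun G _ _ D S hn _ => Nat.not_lt_zero _ hn
  | succ n ih =>
    intro G _ _ D S hn h
    by_cases ht : ∀ a ∈ D, ∀ b ∈ D, ∀ c ∈ D, Near S a b → Near S b c → Near S a c
    · exact h.false_of_trans ht
    · push Not at ht
      obtain ⟨a, ha, b, hb, c, hc, h1, h2, h3⟩ := ht
      obtain ⟨G', _, _, D', S', hlt, h'⟩ :=
        h.exists_smaller ha hb hc h1 h2 (fun e => e.elim h3.1 h3.2)
      exact ih G' D' S' (by omega) h'

theorem Sys.false (h : Sys D S) : False := sys_false (D.ncard + 1) G D S (Nat.lt_succ_self _) h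

end Cfsg.Agent.RootConn
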