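import Cfsg.Agent.Lib.RootConn.Bender

/-!
The components of a disconnected commuting graph as points.
-/

set_option autoImplicit false
set_option linter.style.haveILetI false
set_option linter.unusedSectionVars false

namespace Cfsg.Agent.RootConn

open Subgroup MulAction

universe u

variable {G : Type u} [Group G] [Finite G] {D : Set G}

/-- The component of a member. -/
abbrev comp (D : Set G) (d : G) : Set G := Cfsg.elemComponentOf (Cfsg.CommAdj D) D d

theorem commAdj_symm {a b : G} (h : Cfsg.CommAdj D a b) : Cfsg.CommAdj D b a :=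
  ⟨h.2.1, h.1, h.2.2.1.symm, h.2.2.2.symm⟩

theorem reach_comm {a b : G} (h : Relation.ReflTransGen (Cfsg.CommAdj D) a b) :
    Relation.ReflTransGen (Cfsg.CommAdj D) b a := by
  induction h with
  | refl => exact Relation.ReflTransGen.refl
  | tail _ h2 ih => exact ih.head (commAdj_symm h2)

theorem comp_eq_of_mem {a b : G} (hb : b ∈ comp D a) : comp D b = comp D a := by
  ext c
  exact ⟨fun hc => ⟨hc.1, hb.2.trans hc.2⟩, fun hc => ⟨hc.1, (reach_comm hb.2).trans hc.2⟩⟩

theorem mem_comp_self {a : G} (ha : a ∈ D) : a ∈ comp D a := ⟨ha, Relation.ReflTransGen.refl⟩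

theorem comp_eq_of_comm {a b : G} (ha : a ∈ D) (hb : b ∈ D) (h : a * b = b * a) : comp D a = comp D b := by
  by_cases e : a = b
  · rw [e]
  · exact (comp_eq_of_mem ⟨hb, Relation.ReflTransGen.single ⟨ha, hb, e, h⟩⟩).symm

variable (hD : Cfsg.IsRootInvolutionSet D)
include hD

theorem reach_conj (g : G) {a b : G} (h : Relation.ReflTransGen (Cfsg.CommAdj D) a b) :
    Relation.ReflTransGen (Cfsg.CommAdj D) (g * a * g⁻¹) (g * b * g⁻¹) := by
  refine h.lift (fun c => g * c * g⁻¹) fun p q hpq => ⟨hD.conj_mem p hpq.1 g, hD.conj_mem q hpq.2.1 g,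
    fun e => hpq.2.2.1 (by simpa using e), ?_⟩
  exact (show Commute p q from hpq.2.2.2).map (MulAut.conj g)

/-- The components. -/
def Comp (D : Set G) : Type u := {C : Set G // ∃ d ∈ D, comp D d = C}

/-- The component of a member, as a point. -/
def mkC (d : G) (hd : d ∈ D) : Comp D := ⟨comp D d, d, hd, rfl⟩

theorem conj_comp (g d : G) : (fun c => g * c * g⁻¹) '' comp D d = comp D (g * d * g⁻¹) := by
  ext c
  constructor
  · rintro ⟨p, hp, rfl⟩
    exact ⟨hD.conj_mem p hp.1 g, reach_conj hD g hp.2⟩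
  · intro hc
    refine ⟨g⁻¹ * c * g, ⟨by simpa using hD.conj_mem c hc.1 g⁻¹, ?_⟩, by group⟩
    have := reach_conj hD g⁻¹ hc.2
    simpa [mul_assoc] using this

/-- Conjugation of components. -/
@[reducible] def compAction : MulAction G (Comp D) where
  smul g C := ⟨(fun c => g * c * g⁻¹) '' C.1, by
    obtain ⟨d, hd, hC⟩ := C.2
    exact ⟨g * d * g⁻¹, hD.conj_mem d hd g, by rw [← hC, conj_comp hD]⟩⟩
  one_smul C := Subtype.ext (by show (fun c => (1 : G) * c * (1 : G)⁻¹) '' C.1 = C.1; simp)
  mul_smul g k C := Subtype.ext (by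
    show (fun c => g * k * c * (g * k)⁻¹) '' C.1 = (fun c => g * c * g⁻¹) '' ((fun c => k * c * k⁻¹) '' C.1)
    rw [Set.image_image]
    simp [mul_assoc])

theorem exists_conj_of_odd {a b : G} (ha : a ∈ D) (hb : b ∈ D) (h : Odd (orderOf (a * b))) :
    ∃ g ∈ Subgroup.closure ({a, b} : Set G), g * a * g⁻¹ = b :=
  Invol.conj_of_odd (hD.orderOf_eq a ha) (hD.orderOf_eq b hb) h

theorem odd_of_comp_ne {a b : G} (ha : a ∈ D) (hb : b ∈ D) (h : comp D a ≠ comp D b) :
    Odd (orderOf (a * b)) := by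
  rcases RootInvol.pair3 hD ha hb with h' | h' | h'
  · exact absurd (comp_eq_of_comm ha hb h') h
  · exact h'.2
  · have t1 := (RootInvol.four_tri hD ha hb h').2.2.1
    have t2 := (RootInvol.four_tri hD hb ha h'.symm).2.2.1
    rw [RootInvol.four_sq_eq hD ha hb h'] at t2
    exact absurd ((comp_eq_of_comm ha t1.right t1.comm).trans (comp_eq_of_comm hb t2.right t2.comm).symm) h

theorem cfg_comp (hDD : (D ∩ Cfsg.commutingProducts D).Nonempty)
    (hdis : ¬ Cfsg.IsConnectedSet (Cfsg.CommAdj D) D) :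
    letI := compAction hD
    Cfg D (Comp D) := by
  letI := compAction hD
  have hsmul : ∀ (g d : G) (hd : d ∈ D),
      g • mkC d hd = mkC (g * d * g⁻¹) (hD.conj_mem d hd g) :=
    fun g d hd => Subtype.ext (conj_comp hD g d)
  have hfix : ∀ (d : G) (hd : d ∈ D), d • mkC d hd = mkC d hd :=
    fun d hd => by
      rw [hsmul]
      exact Subtype.ext (by show comp D (d * d * d⁻¹) = comp D d; rw [mul_inv_cancel_right])
  have huniq : ∀ d ∈ D, ∀ C : Comp D, d • C = C → C.1 = comp D d := by
    rintro d hd ⟨C, e, he, rfl⟩ hC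
    by_contra hne
    have hne' : comp D d ≠ comp D e := fun e1 => hne e1.symm
    have he' : e • mkC e he = mkC e he := hfix e he
    obtain ⟨g, hg, hge⟩ := exists_conj_of_odd hD hd he (odd_of_comp_ne hD hd he hne')
    have hgC : g ∈ stabilizer G (mkC e he) :=
      (Subgroup.closure_le _).2 (by rintro _ (rfl | rfl); exacts [hC, he']) hg
    have hd' := hfix d hd
    have : g • mkC d hd = g • mkC e he := by
      rw [mem_stabilizer_iff.1 hgC, hsmul]
      exact Subtype.ext (by show comp D (g * d * g⁻¹) = comp D e; rw [hge])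
    exact hne' (congrArg Subtype.val (MulAction.injective (β := Comp D) g this))
  obtain ⟨y, hyD, a, ha, b, hb, hab, -, rfl⟩ := hDD
  refine ⟨hD, ⟨a, b, ha, hb, hab, hyD⟩, ?_, ?_, fun d hd => ⟨_, hfix d hd⟩, ?_, ?_⟩
  · simp only [Cfsg.IsConnectedSet, not_forall] at hdis
    obtain ⟨p, hp, q, hq, hpq⟩ := hdis
    refine ⟨mkC p hp, mkC q hq, fun e => hpq ?_⟩
    have : q ∈ comp D p := by rw [show comp D p = comp D q from congrArg Subtype.val e]; exact mem_comp_self hq
    exact this.2
  · rintro ⟨C, d, hd, rfl⟩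
    exact ⟨d, hd, hfix d hd⟩
  · intro d hd x y hx hy
    exact Subtype.ext ((huniq d hd x hx).trans (huniq d hd y hy).symm)
  · intro d hd e he hde x hx
    have e1 : x = mkC e he := Subtype.ext ((huniq d hd x hx).trans (comp_eq_of_comm hd he hde))
    rw [e1]; exact hfix e he

end Cfsg.Agent.RootConn
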