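import Cfsg.Agent.Lib.RootConn.Basic

/-!
Passing to the permutations induced, and to the group generated by the members centralising an element.
-/

set_option autoImplicit false
set_option linter.style.haveILetI false
set_option linter.unusedSectionVars false

namespace Cfsg.Agent.RootConn

open Subgroup MulAction

universe u v w

variable {G : Type u} [Group G] [Finite G] {D : Set G} {Ω : Type v} [MulAction G Ω]

namespace Cfg

variable (h : Cfg D Ω)
include h

theorem not_trivial {d : G} (hd : d ∈ D) : ∃ x : Ω, d • x ≠ x := by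
  obtain ⟨x, y, hxy⟩ := h.two
  by_contra hc
  push Not at hc
  exact hxy (h.unique d hd x y (hc x) (hc y))

/-- The situation passes to a group acting alike. -/
theorem map {H : Type w} [Group H] [MulAction H Ω] (φ : G →* H) (hφ : Function.Surjective φ)
    (hact : ∀ (g : G) (x : Ω), φ g • x = g • x) : Cfg (φ '' D) Ω := by
  have hne : ∀ {d : G}, d ∈ D → φ d ≠ 1 := fun {d} hd e => by
    obtain ⟨x, hx⟩ := h.not_trivial hd
    exact hx (by rw [← hact, e, one_smul])
  have key : ∀ d ∈ D, ∀ e ∈ D, φ d * φ e = φ e * φ d → ∀ x : Ω, d • x = x → e • x = x := by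
    intro d hd e he hc x hx
    obtain ⟨y, hy⟩ := h.fix e he
    by_contra hex
    have hxy : x ≠ y := fun e1 => hex (e1 ▸ hy)
    have hodd : Odd (orderOf (φ (d * e))) := (h.odd_of_ne hd he hx hy hxy).of_dvd_nat (orderOf_map_dvd φ _)
    have hsq : φ (d * e) ^ 2 = 1 := by
      rw [map_mul, (show Commute (φ d) (φ e) from hc).mul_pow, pow_two, pow_two, ← map_mul, ← map_mul,
        h.mul_self hd, h.mul_self he, map_one, one_mul]
    have := Invol.eq_one_of_sq_of_odd hodd hsq
    have hde : φ d = φ e := by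
      rw [map_mul, mul_eq_one_iff_eq_inv, ← map_inv, Invol.inv_self (h.ord he)] at this
      exact this
    exact hex (by rw [← hact, ← hde, hact, hx])
  refine ⟨⟨?_, ?_, ?_, ?_⟩, ?_, h.two, ?_, ?_, ?_, ?_⟩
  · rintro _ ⟨d, hd, rfl⟩
    exact Invol.order_two_of_sq (by rw [← map_mul, h.mul_self hd, map_one]) (hne hd)
  · rw [← MonoidHom.map_closure, h.root.generates, Subgroup.map_top_of_surjective φ hφ]
  · rintro _ ⟨d, hd, rfl⟩ g
    obtain ⟨g, rfl⟩ := hφ g
    exact ⟨g * d * g⁻¹, h.root.conj_mem d hd g, by simp⟩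
  · rintro _ ⟨d, hd, rfl⟩ _ ⟨e, he, rfl⟩
    rcases h.root.pair d hd e he with h' | h' | ⟨h', hs⟩
    · exact Or.inl (by rw [← map_mul, h', map_mul])
    · exact Or.inr (Or.inl ((by rw [← map_mul]; exact h'.of_dvd_nat (orderOf_map_dvd φ _))))
    · by_cases hc : φ d * φ e = φ e * φ d
      · exact Or.inl hc
      refine Or.inr (Or.inr ⟨?_, ⟨_, hs, by rw [map_pow, map_mul]⟩⟩)
      have hdvd : orderOf (φ d * φ e) ∣ 4 := by rw [← map_mul, ← h']; exact orderOf_map_dvd φ _
      obtain ⟨i, hi, hie⟩ := (Nat.dvd_prime_pow Nat.prime_two).1 (show orderOf (φ d * φ e) ∣ 2 ^ 2 from hdvd)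
      interval_cases i
      all_goals first
        | exact hie
        | (exfalso
           refine hc ?_
           have e2 : (φ d * φ e) ^ 2 = 1 := by
             rw [← orderOf_dvd_iff_pow_eq_one, hie]; norm_num
           rw [pow_two, mul_eq_one_iff_eq_inv, mul_inv_rev, ← map_inv, ← map_inv,
             Invol.inv_self (h.ord hd), Invol.inv_self (h.ord he)] at e2
           exact e2)
  · obtain ⟨a, b, t⟩ := h.tri
    exact ⟨φ a, φ b, ⟨a, t.left, rfl⟩, ⟨b, t.right, rfl⟩, by rw [← map_mul, t.comm, map_mul],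
      ⟨a * b, t.mul_mem, map_mul φ a b⟩⟩
  · intro x
    obtain ⟨d, hd, hdx⟩ := h.cover x
    exact ⟨φ d, ⟨d, hd, rfl⟩, by rw [hact, hdx]⟩
  · rintro _ ⟨d, hd, rfl⟩
    obtain ⟨x, hx⟩ := h.fix d hd
    exact ⟨x, by rw [hact, hx]⟩
  · rintro _ ⟨d, hd, rfl⟩ x y hx hy
    rw [hact] at hx hy
    exact h.unique d hd x y hx hy
  · rintro _ ⟨d, hd, rfl⟩ _ ⟨e, he, rfl⟩ hc x hx
    rw [hact] at hx ⊢
    exact key d hd e he hc x hx

theorem exists_partner {f : G} (hf : f ∈ D) : ∃ b : G, RootInvol.Tri D f b := by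
  obtain ⟨a, b, t⟩ := h.tri
  obtain ⟨g, rfl⟩ := h.all_conj t.left hf
  have e : ∀ p q : G, g * p * g⁻¹ * (g * q * g⁻¹) = g * (p * q) * g⁻¹ := fun p q => by simp [mul_assoc]
  exact ⟨g * b * g⁻¹, hf, h.root.conj_mem b t.right g, by rw [e, e, t.comm],
    by rw [e]; exact h.root.conj_mem _ t.mul_mem g⟩

/-- Members whose product squares into the kernel commute. -/
theorem comm_of_image {f g : G} (hf : f ∈ D) (hg : g ∈ D) {x : Ω} (hfx : f • x = x) (hgx : g • x = x)
    (hc : ∀ z : Ω, (f * g) • (f * g) • z = z) : f * g = g * f := by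
  rcases RootInvol.pair3 h.root hf hg with h' | h' | h'
  · exact h'
  swap
  · exfalso
    obtain ⟨z, hz⟩ := h.not_trivial (RootInvol.four_sq_mem h.root hf hg h')
    exact hz (by rw [pow_two, mul_smul, hc])
  have hfg : ∀ z : Ω, f • z = g • z := by
    let ψ := MulAction.toPermHom G Ω
    have h1 : ψ (f * g) = 1 := Invol.eq_one_of_sq_of_odd (h'.2.of_dvd_nat (orderOf_map_dvd ψ _))
      (Equiv.ext fun z => by rw [pow_two]; exact hc z)
    intro z
    have h2 : (f * g) • g • z = g • z := Equiv.congr_fun h1 (g • z)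
    rw [mul_smul, h.smul_smul_self hg] at h2
    exact h2
  obtain ⟨b, t⟩ := h.exists_partner hf
  have side : ∀ b : G, RootInvol.Tri D f b → b * g = g * b := by
    intro b t
    obtain ⟨z, hz⟩ := h.not_trivial t.mul_mem
    have hbg : ∀ z : Ω, (b * g) • z = (f * b) • z := fun z => by
      rw [mul_smul, ← hfg, ← mul_smul, ← t.comm]
    rcases RootInvol.pair3 h.root t.right hg with h2 | h2 | h2
    · exact h2
    · exfalso
      let ψ := MulAction.toPermHom G Ω
      have h1 : ψ (b * g) = 1 := Invol.eq_one_of_sq_of_odd (h2.2.of_dvd_nat (orderOf_map_dvd ψ _))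
        (Equiv.ext fun z => by
          rw [pow_two]
          show (b * g) • (b * g) • z = z
          rw [hbg, hbg, h.smul_smul_self t.mul_mem])
      exact hz (by rw [← hbg]; exact Equiv.congr_fun h1 z)
    · exfalso
      obtain ⟨w, hw⟩ := h.not_trivial (RootInvol.four_sq_mem h.root t.right hg h2)
      exact hw (by rw [pow_two, mul_smul, hbg, hbg, h.smul_smul_self t.mul_mem])
  have h1 := side b t
  have h2 := side _ (RootInvol.Tri.third h.root t)
  have : Commute ((f * b) * b) g := (show Commute (f * b) g from h2).mul_left h1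
  rw [mul_assoc, h.mul_self t.right, mul_one] at this
  exact this

end Cfg

/-- The points of the members centralising `y`, under the group they generate. -/
def pts (D : Set G) (hconj : ∀ d ∈ D, ∀ g : G, g * d * g⁻¹ ∈ D) (Ω : Type v)
    [MulAction G Ω] (y : G) :
    SubMulAction (Subgroup.closure {d : G | d ∈ D ∧ Commute d y}) Ω where
  carrier := {x | ∃ d ∈ D, Commute d y ∧ d • x = x}
  smul_mem' c x hx := by
    obtain ⟨d, hd, hdy, hdx⟩ := hx
    have hle : ∀ g ∈ Subgroup.closure {d : G | d ∈ D ∧ Commute d y}, Commute g y := fun g hg => by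
      have := (Subgroup.closure_le (Subgroup.centralizer ({y} : Set G))).2
        (fun d hd => Subgroup.mem_centralizer_singleton_iff.2 hd.2.eq) hg
      exact Subgroup.mem_centralizer_singleton_iff.1 this
    refine ⟨(c : G) * d * (c : G)⁻¹, hconj d hd c, ?_, conj_fix hdx (c : G)⟩
    exact ((hle c c.2).mul_left hdy).mul_left (hle c c.2).inv_left

/-- The members centralising `y`, inside the group they generate. -/
def sub (D : Set G) (y : G) : Set (Subgroup.closure {d : G | d ∈ D ∧ Commute d y}) :=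
  Subtype.val ⁻¹' {d : G | d ∈ D ∧ Commute d y}

/-- The situation passes to the members centralising an element, if they contain a triangle and move. -/
theorem Cfg.restrict (h : Cfg D Ω) {y a b e : G} (t : RootInvol.Tri D a b) (ha : Commute a y) (hb : Commute b y)
    (he : e ∈ D) (hey : Commute e y) {x : Ω} (hax : a • x = x) (hex : e • x ≠ x) :
    Cfg (sub D y) (pts D h.root.conj_mem Ω y) := by
  set S := {d : G | d ∈ D ∧ Commute d y} with hS
  have hle : ∀ g ∈ Subgroup.closure S, Commute g y := fun g hg => by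
    have := (Subgroup.closure_le (Subgroup.centralizer ({y} : Set G))).2
      (fun d hd => Subgroup.mem_centralizer_singleton_iff.2 hd.2.eq) hg
    exact Subgroup.mem_centralizer_singleton_iff.1 this
  refine ⟨⟨?_, ?_, ?_, ?_⟩, ?_, ?_, ?_, ?_, ?_, ?_⟩
  · intro d hd
    rw [← Subgroup.orderOf_coe]
    exact h.ord hd.1
  · exact Subgroup.closure_closure_coe_preimage
  · intro d hd g
    exact ⟨h.root.conj_mem d hd.1 g, ((hle g g.2).mul_left hd.2).mul_left (hle g g.2).inv_left⟩
  · intro c hc d hd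
    rcases h.root.pair c hc.1 d hd.1 with h' | h' | ⟨h', hs⟩
    · exact Or.inl (Subtype.ext h')
    · exact Or.inr (Or.inl (by rw [← Subgroup.orderOf_coe]; exact h'))
    · exact Or.inr (Or.inr ⟨by rw [← Subgroup.orderOf_coe]; exact h', hs, (hc.2.mul_left hd.2).pow_left 2⟩)
  · exact ⟨⟨a, Subgroup.subset_closure ⟨t.left, ha⟩⟩, ⟨b, Subgroup.subset_closure ⟨t.right, hb⟩⟩,
      ⟨t.left, ha⟩, ⟨t.right, hb⟩, Subtype.ext t.comm, t.mul_mem, ha.mul_left hb⟩
  · obtain ⟨z, hz⟩ := h.fix e he
    exact ⟨⟨x, a, t.left, ha, hax⟩, ⟨z, e, he, hey, hz⟩,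
      fun e1 => hex (by rw [show x = z from congrArg Subtype.val e1]; exact hz)⟩
  · rintro ⟨z, d, hd, hdy, hdz⟩
    exact ⟨⟨d, Subgroup.subset_closure ⟨hd, hdy⟩⟩, ⟨hd, hdy⟩, Subtype.ext hdz⟩
  · intro d hd
    obtain ⟨z, hz⟩ := h.fix d hd.1
    exact ⟨⟨z, d, hd.1, hd.2, hz⟩, Subtype.ext hz⟩
  · intro d hd x y hx hy
    exact Subtype.ext (h.unique d hd.1 x y (congrArg Subtype.val hx) (congrArg Subtype.val hy))
  · intro c hc d hd hcd x hx
    exact Subtype.ext (h.comm c hc.1 d hd.1 (congrArg Subtype.val hcd) x (congrArg Subtype.val hx))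

end Cfsg.Agent.RootConn
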