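import Cfsg.Agent.Lib.RootConn.Sylow
import Cfsg.Agent.Lib.GoodInvol.Gate
import Cfsg.Agent.Lib.SEMain.Proof

/-!
The members at a point commute, and some member is central in a Sylow subgroup.

Otherwise two members act alike under the centraliser of a suitable involution, their product has its
centraliser in the stabiliser, and it is conjugate there to an element centralising members at two points.
-/

set_option autoImplicit false
set_option linter.style.haveILetI false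
set_option linter.unusedSectionVars false

namespace Cfsg.Agent.RootConn

open Subgroup MulAction

universe u

/-- Oddly many members, commuting at each point. -/
def Good {G : Type u} [Group G] (D : Set G) (Ω : Type u) [MulAction G Ω] : Prop :=
  Odd D.ncard ∧ ∀ d ∈ D, ∀ e ∈ D, ∀ x : Ω, d • x = x → e • x = x → d * e = e * d

variable {G : Type u} [Group G] [Finite G] {D : Set G} {Ω : Type u} [MulAction G Ω]

/-- The members, as permutations. -/
def permSet (D : Set G) (Ω : Type u) [MulAction G Ω] : Set (MulAction.toPermHom G Ω).range :=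
  (MulAction.toPermHom G Ω).rangeRestrict '' D

theorem Cfg.image (h : Cfg D Ω) : Cfg (permSet D Ω) Ω :=
  h.map _ (MonoidHom.rangeRestrict_surjective _) fun _ _ => rfl

theorem Cfg.comm_of_good (h : Cfg D Ω) (hg : Good (permSet D Ω) Ω) {d e : G} (hd : d ∈ D) (he : e ∈ D)
    {x : Ω} (hdx : d • x = x) (hex : e • x = x) : d * e = e * d := by
  have hc := hg.2 _ ⟨d, hd, rfl⟩ _ ⟨e, he, rfl⟩ x hdx hex
  refine h.comm_of_image hd he hdx hex fun z => ?_
  have h1 : ∀ z : Ω, (d * e) • z = (e * d) • z := fun z => by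
    rw [mul_smul, mul_smul]
    exact Equiv.congr_fun (congrArg Subtype.val hc) z
  rw [h1 ((d * e) • z), mul_smul, mul_smul, h.smul_smul_self hd, h.smul_smul_self he]

/-- The claim below a bound. -/
def Below (n : ℕ) : Prop :=
  ∀ (G Ω : Type u) [Group G] [Finite G] [MulAction G Ω] [FaithfulSMul G Ω] (D : Set G),
    Nat.card G < n → Cfg D Ω → Good D Ω

/-- What the members centralising `y` give at the point `x`. -/
structure SubData (D : Set G) (Ω : Type u) [MulAction G Ω] (y : G) (x : Ω) : Prop where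
  comm : ∀ f ∈ D, ∀ g ∈ D, Commute f y → Commute g y → f • x = x → g • x = x → f * g = g * f
  same : Even {f : G | f ∈ D ∧ Commute f y ∧ f • x = x}.ncard →
    ∃ a a', a ≠ a' ∧ (a ∈ D ∧ Commute a y ∧ a • x = x) ∧ (a' ∈ D ∧ Commute a' y ∧ a' • x = x) ∧
      ∀ z : Ω, (∃ d ∈ D, Commute d y ∧ d • z = z) → a • z = a' • z
  mid : ∀ v ∈ D, ∀ v' ∈ D, ∀ f ∈ D, Commute v y → Commute v' y → Commute f y → ∀ p : Ω, f • p = p →
    v • p ≠ p → v' • p ≠ p →
    (∀ z : Ω, (∃ d ∈ D, Commute d y ∧ d • z = z) → (v * f * v) • z = (v' * f * v') • z) →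
    ∀ z : Ω, (∃ d ∈ D, Commute d y ∧ d • z = z) → v • z = v' • z

theorem Cfg.subData [FaithfulSMul G Ω] (h : Cfg D Ω) (hbelow : Below.{u} (Nat.card G)) {y a b e : G}
    (hy1 : y ≠ 1) {x : Ω} (hyx : y • x = x) (t : RootInvol.Tri D a b) (ha : Commute a y) (hb : Commute b y)
    (hax : a • x = x) (he : e ∈ D) (hey : Commute e y) (hex : e • x ≠ x) : SubData D Ω y x := by
  set Y := Subgroup.closure {d : G | d ∈ D ∧ Commute d y} with hY
  set P := pts D h.root.conj_mem Ω y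
  have hr : Cfg (sub D y) P := h.restrict t ha hb he hey hax hex
  have himg := hr.image
  haveI := h.finite_pts
  have hYlt : Nat.card Y < Nat.card G := by
    refine lt_of_le_of_ne (Subgroup.card_le_card_group Y) fun e1 => hy1 ?_
    have hle : Y ≤ centralizer ({y} : Set G) :=
      (Subgroup.closure_le _).2 fun d hd => mem_centralizer_singleton_iff.2 hd.2.eq
    exact h.eq_one_of_central (fun g => (mem_centralizer_singleton_iff.1
      (hle ((Subgroup.card_eq_iff_eq_top Y).1 e1 ▸ mem_top g))).symm) hyx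
  have hgood : Good (permSet (sub D y) P) P := by
    refine hbelow _ _ _ (lt_of_le_of_lt ?_ hYlt) himg
    exact Nat.card_le_card_of_surjective _ (MonoidHom.rangeRestrict_surjective _)
  have mk : ∀ {f : G}, f ∈ D → Commute f y → f ∈ Y := fun hf hfy => Subgroup.subset_closure ⟨hf, hfy⟩
  set ψ := (MulAction.toPermHom Y P).rangeRestrict
  have hact : ∀ (f : Y) (z : P), ((ψ f • z : P) : Ω) = (f : G) • (z : Ω) := fun f z => rfl
  have heq : ∀ (f g : Y), (∀ z : Ω, (∃ d ∈ D, Commute d y ∧ d • z = z) → (f : G) • z = (g : G) • z) →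
      ψ f = ψ g := fun f g hfg => by
    refine Subtype.ext (Equiv.ext fun z => Subtype.ext ?_)
    exact hfg z z.2
  refine ⟨fun f hf g hg hfy hgy hfx hgx => ?_, fun hev => ?_, ?_⟩
  · exact congrArg Subtype.val (hr.comm_of_good hgood (d := ⟨f, mk hf hfy⟩) (e := ⟨g, mk hg hgy⟩)
      ⟨hf, hfy⟩ ⟨hg, hgy⟩ (x := ⟨x, a, t.left, ha, hax⟩) (Subtype.ext hfx) (Subtype.ext hgx))
  · classical
    haveI : Finite P := Subtype.finite
    by_contra hc
    have hodd := himg.odd_at hgood.1 (⟨x, a, t.left, ha, hax⟩ : P)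
    refine Nat.not_even_iff_odd.2 hodd ?_
    have himage : {d ∈ permSet (sub D y) P | d • (⟨x, a, t.left, ha, hax⟩ : P) = ⟨x, a, t.left, ha, hax⟩} =
        ψ '' {f : Y | (f : G) ∈ D ∧ Commute (f : G) y ∧ (f : G) • x = x} := by
      ext q
      constructor
      · rintro ⟨⟨f, hf, rfl⟩, hq⟩
        exact ⟨f, ⟨hf.1, hf.2, congrArg Subtype.val hq⟩, rfl⟩
      · rintro ⟨f, ⟨h1, h2, h3⟩, rfl⟩
        exact ⟨⟨f, ⟨h1, h2⟩, rfl⟩, Subtype.ext h3⟩
    rw [himage]
    have hcard : {f : Y | (f : G) ∈ D ∧ Commute (f : G) y ∧ (f : G) • x = x}.ncard =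
        {f : G | f ∈ D ∧ Commute f y ∧ f • x = x}.ncard :=
      Set.ncard_preimage_of_injective_subset_range (f := fun g : Y => (g : G))
        (s := {f : G | f ∈ D ∧ Commute f y ∧ f • x = x}) Subtype.val_injective
        (fun f hf => ⟨⟨f, mk hf.1 hf.2.1⟩, rfl⟩)
    rw [Set.InjOn.ncard_image, hcard]
    · exact hev
    intro f hf g hg hfg
    by_contra hne
    refine hc ⟨f, g, fun e1 => hne (Subtype.ext e1), hf, hg, fun z hz => ?_⟩
    rw [← hact f ⟨z, hz⟩, ← hact g ⟨z, hz⟩, hfg]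
  · intro v hv v' hv' f hf hvy hv'y hfy p hfp hvp hv'p heqz z hz
    have := himg.mid_unique (f := ψ ⟨f, mk hf hfy⟩) (v := ψ ⟨v, mk hv hvy⟩) (v' := ψ ⟨v', mk hv' hv'y⟩)
      ⟨_, ⟨hf, hfy⟩, rfl⟩ ⟨_, ⟨hv, hvy⟩, rfl⟩ ⟨_, ⟨hv', hv'y⟩, rfl⟩
      (p := ⟨p, f, hf, hfy, hfp⟩) (Subtype.ext hfp) (fun e1 => hvp (congrArg Subtype.val e1))
      (fun e1 => hv'p (congrArg Subtype.val e1))
      (by rw [← map_mul, ← map_mul, ← map_mul, ← map_mul]; exact heq _ _ heqz)
    rw [← hact ⟨v, mk hv hvy⟩ ⟨z, hz⟩, ← hact ⟨v', mk hv' hv'y⟩ ⟨z, hz⟩, this]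

section Step

variable [FaithfulSMul G Ω] (h : Cfg D Ω)
include h

theorem Cfg.comm_two (S : Sylow 2 G) {f g : G} (hf : f ∈ D) (hg : g ∈ D) (hfS : f ∈ (S : Subgroup G))
    (hgS : g ∈ (S : Subgroup G)) : f * g = g * f ∨ RootInvol.Four f g := by
  rcases RootInvol.pair3 h.root hf hg with h' | h' | h'
  · exact Or.inl h'
  · obtain ⟨k, hk⟩ := S.isPGroup' ⟨f * g, mul_mem hfS hgS⟩
    have := RootInvol.eq_one_of_odd_of_two_pow h'.2 k (congrArg Subtype.val hk)
    exact Or.inl (by rw [(mul_eq_one_iff_eq_inv.1 this).trans (Invol.inv_self (h.ord hg))])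
  · exact Or.inr h'

/-- An element centralising the members in a Sylow subgroup and a member elsewhere. -/
theorem Cfg.exists_y (S : Sylow 2 G) {a0 : G} (ha0 : a0 ∈ D) (ha0S : a0 ∈ (S : Subgroup G)) {x : Ω}
    (hx : a0 • x = x) (hno : ∀ a ∈ D, ¬ ∀ s ∈ (S : Subgroup G), Commute s a) :
    ∃ y e : G, y ≠ 1 ∧ y • x = x ∧ e ∈ D ∧ Commute e y ∧ e • x ≠ x ∧
      ∀ f ∈ D, f ∈ (S : Subgroup G) → Commute f y := by
  haveI : Fact (Nat.Prime 2) := ⟨Nat.prime_two⟩
  haveI := h.finite_pts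
  obtain ⟨z, hzS, hz, hzc⟩ := h.exists_central_invol S ha0 ha0S
  have hzD : z ∉ D := fun hzD => hno z hzD hzc
  have hzx : z • x = x := h.sylow_fix S ha0 ha0S hx hzS
  by_cases hcase : ∀ c : G, Commute c z → c • x = x
  swap
  · push Not at hcase
    obtain ⟨c, hcz, hcx⟩ := hcase
    refine ⟨z, c * a0 * c⁻¹, Invol.ne_one hz, hzx, h.root.conj_mem a0 ha0 c, ?_, fun e1 => ?_,
      fun f _ hfS => hzc f hfS⟩
    · exact (hcz.mul_left (hzc a0 ha0S)).mul_left hcz.inv_left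
    · exact hcx (h.unique _ (h.root.conj_mem a0 ha0 c) _ _ (conj_fix hx c) e1)
  obtain ⟨L, hL⟩ : ∃ L : Ω, z • L ≠ L := by
    by_contra hc
    push Not at hc
    exact Invol.ne_one hz (FaithfulSMul.eq_of_smul_eq_smul fun w : Ω => by rw [hc w, one_smul])
  obtain ⟨e, he, heL⟩ := h.cover L
  obtain ⟨d, hd, hdz, hdx, hew⟩ := h.half_member hz hzD hcase he heL hL
  have hexne : e • x ≠ x := fun e1 => hL (by rw [← h.unique e he x L e1 heL]; exact hzx)
  -- put `d` into the Sylow subgroup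
  have hSC : (S : Subgroup G) ≤ centralizer ({z} : Set G) := fun s hs =>
    mem_centralizer_singleton_iff.2 (hzc s hs).eq
  obtain ⟨c, hc, hle⟩ := LESylow.exists_conj_le_of_le
    (zpowers_le.2 (mem_centralizer_singleton_iff.2 hdz.eq)) (h.isPGroup_member hd) (S.subtype hSC)
  rw [Sylow.coe_subtype, map_subgroupOf_eq_of_le hSC] at hle
  have hcz : Commute c z := mem_centralizer_singleton_iff.1 hc
  have hcx := hcase c hcz
  set d' := c * d * c⁻¹ with hd'
  have hd'D : d' ∈ D := h.root.conj_mem d hd c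
  have hd'S : d' ∈ (S : Subgroup G) := hle ⟨d, mem_zpowers d, rfl⟩
  have hd'x : d' • x = x := by
    have := conj_fix hdx c; rwa [hcx] at this
  set e' := c * e * c⁻¹ with he'
  have he'D : e' ∈ D := h.root.conj_mem e he c
  have he'x : e' • x ≠ x := by
    rw [he', mul_smul, mul_smul, inv_smul_eq_iff.2 hcx.symm]
    exact fun e1 => hexne (MulAction.injective c (e1.trans hcx.symm))
  have he'w : Commute e' (z * d') := by
    have hzd : z * d' = MulAut.conj c (z * d) := by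
      rw [MulAut.conj_apply, hd', ← mul_assoc c z d, hcz.eq]; group
    rw [hzd]
    exact hew.map (MulAut.conj c)
  refine ⟨z * d', e', fun e1 => hzD ?_, by rw [mul_smul, hd'x, hzx], he'D, he'w, he'x, fun f hf hfS => ?_⟩
  · rw [mul_eq_one_iff_eq_inv.1 e1, Invol.inv_self (h.ord hd'D)]; exact hd'D
  refine (hzc f hfS).mul_right ?_
  rcases h.comm_two S hd'D hf hd'S hfS with h' | h'
  · exact h'.symm
  exfalso
  obtain ⟨-, -, ts, hds⟩ := RootInvol.four_tri h.root hd'D hf h'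
  set s := (d' * f) ^ 2
  have hdz' : Commute d' z := hzc d' hd'S
  have hfz : Commute f z := hzc f hfS
  set w := z * d' with hw
  have hws : Commute w s := ((hdz'.symm.mul_right hfz.symm).pow_right 2).mul_left ts.comm
  have hwd : Commute w d' := hdz'.symm.mul_left (Commute.refl d')
  obtain ⟨L', hL'⟩ := h.fix e' he'D
  have hxL : x ≠ L' := fun e1 => he'x (e1 ▸ hL')
  obtain ⟨g, hgw, hgx, hgs⟩ :=
    h.conj_in ts.right hd'D he'D (h.comm d' hd'D s ts.right ts.comm x hd'x) hd'x hL' hxL hws hwd he'w.symm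
  refine h.no_fuse (u := z) (w := w) (k := g * f) hcase hd'D hd'x hwd he'D hL' he'w.symm hxL ?_ ?_
  · rw [mul_smul, h.sylow_fix S ha0 ha0S hx hfS, hgx]
  · have e1 : f * w * f⁻¹ = w * s := by
      rw [Invol.inv_self (h.ord hf), hw, ← mul_assoc, hfz.eq, mul_assoc z d' s, hds]
      simp only [mul_assoc]
    calc g * f * w * (g * f)⁻¹ = g * (f * w * f⁻¹) * g⁻¹ := by group
      _ = g * w * g⁻¹ * (g * s * g⁻¹) := by rw [e1]; group
      _ = w * d' := by rw [← hgw.eq, mul_inv_cancel_right, hgs]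
      _ = z := by rw [hw, mul_assoc, h.mul_self hd'D, mul_one]

/-- An odd number of members, given the claim in smaller groups. -/
theorem Cfg.odd_step (hbelow : Below.{u} (Nat.card G)) : Odd D.ncard := by
  by_contra hodd
  haveI : Fact (Nat.Prime 2) := ⟨Nat.prime_two⟩
  haveI := h.finite_pts
  obtain ⟨S, a0, b0, t0, ha0S, hb0S⟩ := h.exists_tri_sylow
  obtain ⟨x, hx⟩ := h.fix a0 t0.left
  have hno : ∀ a ∈ D, ¬ ∀ s ∈ (S : Subgroup G), Commute s a := fun a ha hc => hodd (h.odd_of_central S ha hc)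
  obtain ⟨y, e, hy1, hyx, he, hey, hex, hSy⟩ := h.exists_y S t0.left ha0S hx hno
  have sd := h.subData hbelow hy1 hyx t0 (hSy a0 t0.left ha0S) (hSy b0 t0.right hb0S) hx he hey hex
  set T := {f : G | f ∈ D ∧ Commute f y ∧ f • x = x} with hT
  have hTS : T = {f : G | f ∈ D ∧ f ∈ (S : Subgroup G)} :=
    h.mem_of_comm S (fun f hf => hf.1) (fun f hf g hg => sd.comm f hf.1 g hg.1 hf.2.1 hg.2.1 hf.2.2 hg.2.2)
      fun f hf => ⟨hf.1, hSy f hf.1 hf.2, h.sylow_fix S t0.left ha0S hx hf.2⟩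
  have tc : ∀ f ∈ T, ∀ g ∈ T, Commute f g := fun f hf g hg =>
    sd.comm f hf.1 g hg.1 hf.2.1 hg.2.1 hf.2.2 hg.2.2
  obtain ⟨a, a', hne, haT, ha'T, hsame⟩ := sd.same (by rw [← hT, hTS]; exact h.even_members S hno)
  change a ∈ T at haT
  change a' ∈ T at ha'T
  obtain ⟨u, hu⟩ : ∃ u, u = a * a' := ⟨_, rfl⟩
  have hu2 : orderOf u = 2 := hu ▸ h.prod_order haT.1 ha'T.1 (tc a haT a' ha'T) hne
  have hCu : ∀ c : G, Commute c u → c • x = x := fun c hc =>
    h.cent_prod haT.1 ha'T.1 (tc a haT a' ha'T) hne (hu ▸ hc) haT.2.2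
  have hupts : ∀ z : Ω, (∃ d ∈ D, Commute d y ∧ d • z = z) → u • z = z := by
    rintro z ⟨d, hd, hdy, hdz⟩
    have hz' : ∃ g ∈ D, Commute g y ∧ g • (a' • z) = a' • z :=
      ⟨a' * d * a'⁻¹, h.root.conj_mem d hd a', (ha'T.2.1.mul_left hdy).mul_left ha'T.2.1.inv_left,
        conj_fix hdz a'⟩
    rw [hu, mul_smul, hsame _ hz', h.smul_smul_self ha'T.1]
  have huy : Commute u y := hu ▸ haT.2.1.mul_left ha'T.2.1
  have hxpts : ∃ d ∈ D, Commute d y ∧ d • x = x := ⟨a, haT.1, haT.2.1, haT.2.2⟩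
  have huT : ∀ f ∈ T, Commute u f := fun f hf => hu ▸ (tc a haT f hf).mul_left (tc a' ha'T f hf)
  obtain ⟨L, hL⟩ := h.fix e he
  have hxL : x ≠ L := fun e1 => hex (e1 ▸ hL)
  have huD : u ∉ D := fun hD => hxL (h.unique u hD _ _ (hupts x hxpts) (hupts L ⟨e, he, hey, hL⟩))
  -- a point moved by `u`, and the member it gives
  obtain ⟨L₁, hL₁⟩ : ∃ L₁ : Ω, u • L₁ ≠ L₁ := by
    by_contra hc
    push Not at hc
    exact Invol.ne_one hu2 (FaithfulSMul.eq_of_smul_eq_smul fun w : Ω => by rw [hc w, one_smul])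
  obtain ⟨e₁, he₁, he₁L⟩ := h.cover L₁
  obtain ⟨d₁, hd₁, hd₁u, -, he₁w⟩ := h.half_member hu2 huD hCu he₁ he₁L hL₁
  have hTC : Subgroup.closure T ≤ centralizer ({u} : Set G) :=
    (Subgroup.closure_le _).2 fun f hf => mem_centralizer_singleton_iff.2 (huT f hf).symm.eq
  have hTp : IsPGroup 2 (Subgroup.closure T) := h.isPGroup_of_comm (fun f hf => hf.1) tc
  obtain ⟨R, hR⟩ :=
    (hTp.comap_of_injective (centralizer ({u} : Set G)).subtype (subtype_injective _)).exists_le_sylow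
  obtain ⟨c, hc, hcle⟩ := LESylow.exists_conj_le_of_le
    (zpowers_le.2 (mem_centralizer_singleton_iff.2 hd₁u.eq)) (h.isPGroup_member hd₁) R
  set R' := (R : Subgroup (centralizer ({u} : Set G))).map (centralizer ({u} : Set G)).subtype
  have hR' : IsPGroup 2 R' := R.isPGroup'.map _
  have hRT : {f : G | f ∈ D ∧ f ∈ R'} = T := by
    refine (Set.eq_of_subset_of_ncard_le (s := T) ?_ ?_ (Set.toFinite _)).symm
    · intro f hf
      have hfC := hTC (Subgroup.subset_closure hf)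
      exact ⟨hf.1, ⟨⟨f, hfC⟩, hR (Subgroup.mem_comap.2 (Subgroup.subset_closure hf)), rfl⟩⟩
    · rw [hTS]; exact h.members_le S hR'
  have hcu : Commute c u := mem_centralizer_singleton_iff.1 hc
  obtain ⟨d, hd⟩ : ∃ d, d = c * d₁ * c⁻¹ := ⟨_, rfl⟩
  have hdT : d ∈ T := by
    rw [← hRT, hd]; exact ⟨h.root.conj_mem d₁ hd₁ c, hcle ⟨d₁, mem_zpowers d₁, rfl⟩⟩
  set e₂ := c * e₁ * c⁻¹ with he₂
  have he₂D : e₂ ∈ D := h.root.conj_mem e₁ he₁ c
  obtain ⟨w, hw⟩ : ∃ w, w = u * d := ⟨_, rfl⟩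
  have he₂w : Commute w e₂ := by
    have hud : w = MulAut.conj c (u * d₁) := by
      rw [MulAut.conj_apply, hw, hd, ← mul_assoc c u d₁, hcu.eq]; group
    rw [hud]
    exact he₁w.symm.map (MulAut.conj c)
  obtain ⟨L₂, hL₂⟩ := h.fix e₂ he₂D
  have hxL₂ : x ≠ L₂ := by
    intro e1
    refine hL₁ ?_
    have h1 : e₁ • x = x := by
      have := conj_fix (e1 ▸ hL₂ : e₂ • x = x) c⁻¹
      rw [inv_smul_eq_iff.2 (hCu c hcu).symm, he₂] at this
      simpa [mul_assoc] using this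
    rw [← h.unique e₁ he₁ x L₁ h1 he₁L]
    exact hupts x hxpts
  -- the member acting as `d` that brings a conjugate of `e` back
  obtain ⟨f, hf⟩ : ∃ f, f = d * e * d := ⟨_, rfl⟩
  have hfD : f ∈ D := hf ▸ h.conj3 he hdT.1
  have hfy : Commute f y := hf ▸ (hdT.2.1.mul_left hey).mul_left hdT.2.1
  have hfL : f • d • L = d • L := by rw [hf, mul_smul, mul_smul, h.smul_smul_self hdT.1, hL]
  obtain ⟨e', he'⟩ : ∃ e', e' = u * e * u := ⟨_, rfl⟩
  have he'D : e' ∈ D := by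
    rw [he']; have := h.root.conj_mem e he u; rwa [Invol.inv_self hu2] at this
  have he'y : Commute e' y := he' ▸ (huy.mul_left hey).mul_left huy
  have huL : u • L = L := hupts L ⟨e, he, hey, hL⟩
  have he'L : e' • L = L := by rw [he', mul_smul, mul_smul, huL, hL, huL]
  have hdL : d • L ≠ L := fun e1 => hxL (h.unique d hdT.1 _ _ hdT.2.2 e1)
  obtain ⟨v, hv, hve, hvL, -, hvc⟩ := h.exists_mid_ne hfD he'D hfL he'L hdL
  have hvy : Commute v y := (hvc y hfy.symm he'y.symm).symm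
  have hvd := sd.mid v hv d hdT.1 f hfD hvy hdT.2.1 hfy (d • L) hfL (by rw [hvL]; exact hdL.symm)
    (by rw [h.smul_smul_self hdT.1]; exact hdL.symm) (fun z hz => by
      rw [hve, hf, ← mul_assoc, ← mul_assoc, h.mul_self hdT.1, one_mul, mul_assoc, h.mul_self hdT.1, mul_one,
        he', mul_smul, mul_smul, hupts z hz]
      obtain ⟨g, hg, hgy, hgz⟩ := hz
      exact hupts _ ⟨e * g * e⁻¹, h.root.conj_mem g hg e, (hey.mul_left hgy).mul_left hey.inv_left,
        conj_fix hgz e⟩)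
  have hvT : v ∈ T := ⟨hv, hvy, by rw [hvd x hxpts]; exact hdT.2.2⟩
  obtain ⟨i, hi⟩ : ∃ i, i = u * v * d := ⟨_, rfl⟩
  have hie : Commute i e := by
    have hee : i * e * (d * v * u) = e := by
      calc i * e * (d * v * u) = u * (v * (d * e * d) * v) * u := by rw [hi]; simp only [mul_assoc]
        _ = u * e' * u := by rw [← hf, hve]
        _ = e := by
          rw [he', ← mul_assoc, ← mul_assoc, Invol.mul_self hu2, one_mul, mul_assoc, Invol.mul_self hu2,
            mul_one]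
    have hinv : d * v * u = i⁻¹ := by
      rw [hi, mul_inv_rev, mul_inv_rev, Invol.inv_self hu2, Invol.inv_self (h.ord hv),
        Invol.inv_self (h.ord hdT.1), mul_assoc]
    rw [hinv] at hee
    exact mul_inv_eq_iff_eq_mul.1 hee
  have hiT : ∀ g ∈ T, Commute i g := fun g hg =>
    hi ▸ ((huT g hg).mul_left (tc v hvT g hg)).mul_left (tc d hdT g hg)
  -- a partner of `v`
  have ha0T : a0 ∈ T := by rw [hTS]; exact ⟨t0.left, ha0S⟩
  have hb0T : b0 ∈ T := by rw [hTS]; exact ⟨t0.right, hb0S⟩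
  obtain ⟨g, hgy, hgx, hga⟩ :=
    h.conj_in t0.left hv he hx hvT.2.2 hL hxL ha0T.2.1.symm hvy.symm hey.symm
  set b := g * b0 * g⁻¹ with hb
  have hbT : b ∈ T := by
    refine ⟨h.root.conj_mem b0 t0.right g, (hgy.symm.mul_left hb0T.2.1).mul_left hgy.symm.inv_left, ?_⟩
    have := conj_fix hb0T.2.2 g; rwa [hgx] at this
  have hvb : v * b ∈ D := by
    rw [← hga, hb, show g * a0 * g⁻¹ * (g * b0 * g⁻¹) = g * (a0 * b0) * g⁻¹ by group]
    exact h.root.conj_mem _ t0.mul_mem g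
  have hcT : v * b ∈ T := ⟨hvb, hvy.mul_left hbT.2.1, by rw [mul_smul, hbT.2.2, hvT.2.2]⟩
  obtain ⟨k₁, hk₁i, hk₁x, hk₁v⟩ :=
    h.conj_in hv hbT.1 he hvT.2.2 hbT.2.2 hL hxL (hiT v hvT) (hiT b hbT) hie
  have hwT : ∀ g ∈ T, Commute w g := fun g hg => hw ▸ (huT g hg).mul_left (tc d hdT g hg)
  obtain ⟨k₂, hk₂w, hk₂x, hk₂c⟩ :=
    h.conj_in hvb hdT.1 he₂D hcT.2.2 hdT.2.2 hL₂ hxL₂ (hwT _ hcT) (hwT d hdT) he₂w
  refine h.no_fuse (u := u) (w := w) (k := k₂ * k₁) hCu hdT.1 hdT.2.2 (hwT d hdT) he₂D hL₂ he₂w hxL₂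
    (by rw [mul_smul, hk₁x, hk₂x]) ?_
  have hwi : i * v = w := by
    rw [hi, hw, mul_assoc, (tc d hdT v hvT).eq, ← mul_assoc, mul_assoc u v v, h.mul_self hv, mul_one]
  have hib : i * b = w * (v * b) := by rw [← hwi, mul_assoc i v, ← mul_assoc v v b, h.mul_self hv, one_mul]
  calc k₂ * k₁ * w * (k₂ * k₁)⁻¹ = k₂ * (k₁ * i * k₁⁻¹ * (k₁ * v * k₁⁻¹)) * k₂⁻¹ := by rw [← hwi]; group
    _ = k₂ * (w * (v * b)) * k₂⁻¹ := by rw [← hk₁i.eq, mul_inv_cancel_right, hk₁v, hib]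
    _ = k₂ * w * k₂⁻¹ * (k₂ * (v * b) * k₂⁻¹) := by group
    _ = w * d := by rw [← hk₂w.eq, mul_inv_cancel_right, hk₂c]
    _ = u := by rw [hw, mul_assoc, h.mul_self hdT.1, mul_one]

/-- The stabiliser of a point is strongly embedded once there are oddly many members. -/
theorem Cfg.strongly_embedded (ho : Odd D.ncard) (x : Ω) :
    Cfsg.IsStronglyEmbedded (stabilizer G x) ∧ (stabilizer G x).normalCore = ⊥ := by
  haveI := h.finite_pts
  have hsurj : ∀ z : Ω, ∃ g : G, g • x = z := h.trans_smul x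
  have hcore : (stabilizer G x).normalCore = ⊥ := by
    refine eq_bot_iff.2 fun g hg => mem_bot.2 (FaithfulSMul.eq_of_smul_eq_smul fun z : Ω => ?_)
    obtain ⟨k, rfl⟩ := hsurj z
    have hgk : (k⁻¹ * g * k) • x = x := by
      have := (stabilizer G x).normalCore_normal.conj_mem g hg k⁻¹
      exact mem_stabilizer_iff.1 ((stabilizer G x).normalCore_le (by simpa using this))
    rw [one_smul]
    rwa [mul_smul, mul_smul, inv_smul_eq_iff] at hgk
  obtain ⟨d₀, hd₀, hd₀x⟩ := h.cover x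
  obtain ⟨S, a, ha, haS, hSa⟩ := h.exists_central ho
  obtain ⟨g, hg⟩ := h.all_conj ha hd₀
  obtain ⟨S', hS'⟩ := LESylow.exists_sylow_conj S g
  have hd₀S : d₀ ∈ (S' : Subgroup G) := by rw [hS']; exact ⟨a, haS, hg⟩
  have hS'c : ∀ s ∈ (S' : Subgroup G), Commute s d₀ := by
    intro s hs
    rw [hS'] at hs
    obtain ⟨t, ht, rfl⟩ := hs
    rw [← hg]
    exact (hSa t ht).map (MulAut.conj g)
  have hne : stabilizer G x ≠ ⊤ := fun e => by
    obtain ⟨z, hz⟩ := h.exists_ne x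
    obtain ⟨k, hk⟩ := hsurj z
    exact hz (hk ▸ mem_stabilizer_iff.1 (e ▸ mem_top k))
  have hnc : normalClosure ({d₀} : Set G) = ⊤ := by
    rw [eq_top_iff, ← h.root.generates, Subgroup.closure_le]
    intro c hc
    obtain ⟨k, rfl⟩ := h.all_conj hd₀ hc
    exact normalClosure_normal.conj_mem d₀ (subset_normalClosure (Set.mem_singleton d₀)) k
  refine ⟨⟨hne, Invol.even_of_invol_mem (h.ord hd₀) (mem_stabilizer_iff.2 hd₀x), fun k hk => ?_⟩, hcore⟩
  rw [← Nat.not_even_iff_odd]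
  intro hev
  obtain ⟨v, hv, hv2⟩ := Invol.exists_invol hev
  obtain ⟨h1, h2⟩ := mem_inf.1 hv
  rw [Invol.mem_conj_map] at h2
  refine hk ?_
  have := GoodInvol.gate G (stabilizer G x) d₀ hne (h.ord hd₀) (mem_stabilizer_iff.2 hd₀x)
    ⟨S', hd₀S, hS'c⟩ (fun g hg => ?_) (fun g hc hne' c hcc => ?_) v (hnc ▸ mem_top v)
    (by rw [hcore, mem_bot]; exact Invol.ne_one hv2) (by rw [Invol.mul_self hv2]; exact one_mem _)
    1 k (by simpa using h1) h2
  · simpa using this
  · have h1 := mem_stabilizer_iff.1 hg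
    have h2 := conj_fix h1 g⁻¹
    rw [show g⁻¹ * (g * d₀ * g⁻¹) * g⁻¹⁻¹ = d₀ by group] at h2
    refine mem_stabilizer_iff.2 ?_
    have := h.unique d₀ hd₀ _ _ h2 hd₀x
    rw [inv_smul_eq_iff] at this
    exact this.symm
  · exact mem_stabilizer_iff.2 (h.cent_prod hd₀ (h.root.conj_mem d₀ hd₀ g) hc.eq hne'.symm
      (mem_centralizer_singleton_iff.1 hcc) hd₀x)

/-- A stabiliser holds two commuting involutions. -/
theorem Cfg.hasPair : ∃ x : Ω, SEMain.HasPair (stabilizer G x) := by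
  obtain ⟨a, b, t⟩ := h.tri
  obtain ⟨x, hx⟩ := h.fix a t.left
  exact ⟨x, a, b, mem_stabilizer_iff.2 hx, mem_stabilizer_iff.2 (h.comm a t.left b t.right t.comm x hx),
    h.ord t.left, h.ord t.right, RootInvol.Tri.ne h.root t, t.comm⟩

end Step

theorem good_aux : ∀ n : ℕ, Below.{u} n := by
  intro n
  induction n with
  | zero => exact fun G Ω _ _ _ _ D hn _ => absurd hn (Nat.not_lt_zero _)
  | succ n ih =>
    intro G Ω _ _ _ _ D hn h
    have hb : Below.{u} (Nat.card G) := fun G' Ω' _ _ _ _ D' hn' h' => ih G' Ω' D' (by omega) h'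
    have ho := h.odd_step hb
    obtain ⟨x, hx⟩ := h.hasPair
    obtain ⟨hse, hcore⟩ := h.strongly_embedded ho x
    obtain ⟨hcomm, -⟩ := SEMain.stmt G _ hse hcore hx.exists_four
    refine ⟨ho, fun d hd e he z hdz hez => ?_⟩
    obtain ⟨g, hg⟩ := h.trans_smul z x
    have hd' := hcomm (g * d * g⁻¹) (g * e * g⁻¹)
      (mem_stabilizer_iff.2 (hg ▸ conj_fix hdz g)) (mem_stabilizer_iff.2 (hg ▸ conj_fix hez g))
      ((Invol.order_conj g d).trans (h.ord hd)) ((Invol.order_conj g e).trans (h.ord he))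
    simpa [mul_assoc] using congrArg (fun q => g⁻¹ * q * g) hd'

theorem Cfg.good [FaithfulSMul G Ω] (h : Cfg D Ω) : Good D Ω :=
  good_aux (Nat.card G + 1) G Ω D (Nat.lt_succ_self _) h

/-- Members at one point commute. -/
theorem Cfg.comm_at (h : Cfg D Ω) {d e : G} (hd : d ∈ D) (he : e ∈ D) {x : Ω} (hdx : d • x = x)
    (hex : e • x = x) : d * e = e * d :=
  haveI : Finite (MulAction.toPermHom G Ω).range :=
    Finite.of_surjective _ (MonoidHom.rangeRestrict_surjective _)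
  h.comm_of_good h.image.good hd he hdx hex

end Cfsg.Agent.RootConn
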