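import Cfsg.Agent.Lib.RootConn.Image
import Cfsg.Agent.Lib.LocalEven.SylowAux
import Cfsg.Agent.Lib.TwoGroups.NormalFour

/-!
Two-groups and members: a member centralised by a Sylow subgroup and the members inside one.
-/

set_option autoImplicit false
set_option linter.style.haveILetI false
set_option linter.unusedSectionVars false

namespace Cfsg.Agent.RootConn

open Subgroup MulAction

universe u v

variable {G : Type u} [Group G] [Finite G] {D : Set G} {Ω : Type v} [MulAction G Ω]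

namespace Cfg

variable (h : Cfg D Ω)
include h

theorem finite_pts : Finite Ω := by
  choose g hg using fun d : D => h.fix d d.2
  refine Finite.of_surjective g fun x => ?_
  obtain ⟨d, hd, hdx⟩ := h.cover x
  exact ⟨⟨d, hd⟩, h.unique d hd _ _ (hg ⟨d, hd⟩) hdx⟩

theorem isPGroup_of_comm {T : Set G} (hT : T ⊆ D) (hc : ∀ s ∈ T, ∀ t ∈ T, s * t = t * s) :
    IsPGroup 2 (Subgroup.closure T) :=
  RootInvol.isPGroup_closure h.root hT
    (fun s hs t ht => by rw [← hc s hs t ht, mul_assoc, h.mul_self (hT ht), mul_one]; exact hs)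
    fun s hs t ht ho => RootInvol.not_comm_of_odd2 h.root (hT hs) (hT ht) ho (hc s hs t ht)

theorem isPGroup_member {d : G} (hd : d ∈ D) : IsPGroup 2 (zpowers d) :=
  haveI : Fact (Nat.Prime 2) := ⟨Nat.prime_two⟩
  LESylow.isPGroup_zpowers (k := 1) (by rw [h.ord hd, pow_one])

/-- No 2-subgroup holds more members than a Sylow subgroup. -/
theorem members_le (S : Sylow 2 G) {P : Subgroup G} (hP : IsPGroup 2 P) :
    {d : G | d ∈ D ∧ d ∈ P}.ncard ≤ {d : G | d ∈ D ∧ d ∈ (S : Subgroup G)}.ncard := by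
  haveI : Fact (Nat.Prime 2) := ⟨Nat.prime_two⟩
  obtain ⟨g, hg⟩ := LESylow.exists_conj_le hP S
  refine Set.ncard_le_ncard_of_injOn (fun d => g * d * g⁻¹) (fun d hd => ⟨h.root.conj_mem d hd.1 g, ?_⟩)
    (fun a _ b _ e => by simpa using e) (Set.toFinite _)
  exact hg ⟨d, hd.2, rfl⟩

/-- Pairwise commuting members containing those of a Sylow subgroup lie in it. -/
theorem mem_of_comm (S : Sylow 2 G) {T : Set G} (hT : T ⊆ D) (hc : ∀ s ∈ T, ∀ t ∈ T, s * t = t * s)
    (hsub : {d : G | d ∈ D ∧ d ∈ (S : Subgroup G)} ⊆ T) : T = {d : G | d ∈ D ∧ d ∈ (S : Subgroup G)} := by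
  refine (Set.eq_of_subset_of_ncard_le hsub ?_ (Set.toFinite _)).symm
  refine le_trans (Set.ncard_le_ncard ?_ (Set.toFinite _)) (h.members_le S (h.isPGroup_of_comm hT hc))
  exact fun t ht => ⟨hT ht, Subgroup.subset_closure ht⟩

theorem exists_tri_sylow : ∃ (S : Sylow 2 G) (a b : G),
    RootInvol.Tri D a b ∧ a ∈ (S : Subgroup G) ∧ b ∈ (S : Subgroup G) := by
  obtain ⟨a, b, t⟩ := h.tri
  have hP := h.isPGroup_of_comm (T := {a, b}) (by rintro _ (rfl | rfl); exacts [t.left, t.right])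
    (by
      rintro _ (rfl | rfl) _ (rfl | rfl)
      exacts [rfl, t.comm, t.comm.symm, rfl])
  obtain ⟨S, hS⟩ := hP.exists_le_sylow
  exact ⟨S, a, b, t, hS (Subgroup.subset_closure (Set.mem_insert _ _)),
    hS (Subgroup.subset_closure (Set.mem_insert_of_mem _ rfl))⟩

/-- A Sylow subgroup holding a member fixes its point. -/
theorem sylow_fix [Finite Ω] (S : Sylow 2 G) {a : G} (ha : a ∈ D) (haS : a ∈ (S : Subgroup G)) {x : Ω}
    (hax : a • x = x) {s : G} (hs : s ∈ (S : Subgroup G)) : s • x = x := by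
  haveI : Fact (Nat.Prime 2) := ⟨Nat.prime_two⟩
  obtain ⟨z, hz⟩ := S.isPGroup'.nonempty_fixed_point_of_prime_not_dvd_card Ω (by
    rw [← even_iff_two_dvd, Nat.not_even_iff_odd]; exact h.odd_card)
  have hzx : z = x := h.unique a ha z x (hz ⟨a, haS⟩) hax
  exact hzx ▸ hz ⟨s, hs⟩

/-- The class of a member centralised by a Sylow subgroup is odd. -/
theorem odd_of_central (S : Sylow 2 G) {a : G} (ha : a ∈ D) (hS : ∀ s ∈ (S : Subgroup G), Commute s a) :
    Odd D.ncard := by
  classical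
  set C := centralizer ({a} : Set G)
  let f : G ⧸ C → G := Quotient.lift (fun g : G => g * a * g⁻¹) fun g₁ g₂ he => by
    have he' := mem_centralizer_singleton_iff.1 (QuotientGroup.leftRel_apply.1 he)
    calc g₁ * a * g₁⁻¹ = g₁ * (a * (g₁⁻¹ * g₂)) * g₂⁻¹ := by group
      _ = g₁ * (g₁⁻¹ * g₂ * a) * g₂⁻¹ := by rw [he']
      _ = g₂ * a * g₂⁻¹ := by group
  have hf : Function.Injective f := by
    intro p q
    induction p using QuotientGroup.induction_on with
    | _ g₁ =>
      induction q using QuotientGroup.induction_on with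
      | _ g₂ =>
        intro (e : g₁ * a * g₁⁻¹ = g₂ * a * g₂⁻¹)
        rw [QuotientGroup.eq]
        refine mem_centralizer_singleton_iff.2 ?_
        calc g₁⁻¹ * g₂ * a = g₁⁻¹ * (g₂ * a * g₂⁻¹) * g₂ := by group
          _ = a * (g₁⁻¹ * g₂) := by rw [← e]; group
  have hD : Set.range f = D := by
    refine Set.Subset.antisymm ?_ fun d hd => ?_
    · rintro _ ⟨p, rfl⟩
      induction p using QuotientGroup.induction_on with
      | _ g => exact h.root.conj_mem a ha g
    · obtain ⟨g, hg⟩ := h.all_conj ha hd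
      exact ⟨(g : G ⧸ C), hg⟩
  rw [← hD, Set.ncard_range_of_injective hf]
  refine Odd.of_dvd_nat ?_ (index_dvd_of_le (show (S : Subgroup G) ≤ C from fun s hs =>
    mem_centralizer_singleton_iff.2 (hS s hs).eq))
  rw [← Nat.not_even_iff_odd, even_iff_two_dvd]
  haveI : Fact (Nat.Prime 2) := ⟨Nat.prime_two⟩
  exact S.not_dvd_index

/-- Without such a member a Sylow subgroup holds evenly many. -/
theorem even_members (S : Sylow 2 G) (hno : ∀ a ∈ D, ¬ ∀ s ∈ (S : Subgroup G), Commute s a) :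
    Even {d : G | d ∈ D ∧ d ∈ (S : Subgroup G)}.ncard := by
  classical
  haveI : Fact (Nat.Prime 2) := ⟨Nat.prime_two⟩
  set T := {d : G | d ∈ D ∧ d ∈ (S : Subgroup G)}
  letI act : MulAction S T :=
    { smul := fun s d => ⟨(s : G) * d * (s : G)⁻¹, h.root.conj_mem d d.2.1 s,
        mul_mem (mul_mem s.2 d.2.2) (inv_mem s.2)⟩
      one_smul := fun d => Subtype.ext (by show ((1 : S) : G) * d * ((1 : S) : G)⁻¹ = d; simp)
      mul_smul := fun s t d => Subtype.ext (by
        show ((s * t : S) : G) * d * ((s * t : S) : G)⁻¹ = (s : G) * ((t : G) * d * (t : G)⁻¹) * (s : G)⁻¹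
        simp [mul_assoc]) }
  rw [← Nat.card_coe_set_eq, even_iff_two_dvd]
  by_contra hn
  obtain ⟨d, hd⟩ := S.isPGroup'.nonempty_fixed_point_of_prime_not_dvd_card T hn
  exact hno d d.2.1 fun s hs => mul_inv_eq_iff_eq_mul.1 (congrArg Subtype.val (hd ⟨s, hs⟩))

theorem exists_central_invol (S : Sylow 2 G) {a : G} (ha : a ∈ D) (haS : a ∈ (S : Subgroup G)) :
    ∃ z ∈ (S : Subgroup G), orderOf z = 2 ∧ ∀ s ∈ (S : Subgroup G), Commute s z := by
  obtain ⟨⟨z, hzS⟩, -, hz, hzc⟩ := NormalFour.exists_central_mem S.isPGroup' (N := ⊤) fun e => by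
    have : (⟨a, haS⟩ : S) ∈ (⊥ : Subgroup S) := e ▸ mem_top _
    exact RootInvol.ne_one h.root ha (congrArg Subtype.val (mem_bot.1 this))
  rw [Subgroup.orderOf_mk] at hz
  exact ⟨z, hzS, hz, fun s hs => congrArg Subtype.val (mem_center_iff.1 hzc ⟨s, hs⟩)⟩

/-- Some member centralised by a Sylow subgroup lies in it, when there are oddly many. -/
theorem exists_central (ho : Odd D.ncard) :
    ∃ (S : Sylow 2 G) (a : G), a ∈ D ∧ a ∈ (S : Subgroup G) ∧ ∀ s ∈ (S : Subgroup G), Commute s a := by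
  obtain ⟨S, -⟩ : ∃ S : Sylow 2 G, True := ⟨default, trivial⟩
  haveI : Fact (Nat.Prime 2) := ⟨Nat.prime_two⟩
  letI act : MulAction S D :=
    { smul := fun s d => ⟨(s : G) * d * (s : G)⁻¹, h.root.conj_mem d d.2 s⟩
      one_smul := fun d => Subtype.ext (by show ((1 : S) : G) * d * ((1 : S) : G)⁻¹ = d; simp)
      mul_smul := fun s t d => Subtype.ext (by
        show ((s * t : S) : G) * d * ((s * t : S) : G)⁻¹ = (s : G) * ((t : G) * d * (t : G)⁻¹) * (s : G)⁻¹
        simp [mul_assoc]) }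
  obtain ⟨⟨a, ha⟩, hfix⟩ := S.isPGroup'.nonempty_fixed_point_of_prime_not_dvd_card D (by
    rw [← even_iff_two_dvd, Nat.not_even_iff_odd, Nat.card_coe_set_eq]; exact ho)
  have hc : ∀ s ∈ (S : Subgroup G), Commute s a := fun s hs =>
    mul_inv_eq_iff_eq_mul.1 (congrArg Subtype.val (hfix ⟨s, hs⟩))
  refine ⟨S, a, ha, ?_, hc⟩
  have hle : (S : Subgroup G) ≤ Subgroup.normalizer (zpowers a : Set G) := fun s hs => by
    refine Subgroup.mem_normalizer_iff.2 fun n => ?_
    constructor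
    · intro hn
      obtain ⟨k, rfl⟩ := mem_zpowers_iff.1 hn
      rw [((hc s hs).zpow_right k).eq, mul_inv_cancel_right]
      exact zpow_mem (mem_zpowers a) k
    · intro hn
      obtain ⟨k, hk⟩ := mem_zpowers_iff.1 hn
      have : n = a ^ k := by
        calc n = s⁻¹ * (s * n * s⁻¹) * s := by group
          _ = s⁻¹ * a ^ k * s := by rw [hk]
          _ = _ := by rw [mul_assoc, ← ((hc s hs).zpow_right k).eq, ← mul_assoc, inv_mul_cancel, one_mul]
      exact this ▸ zpow_mem (mem_zpowers a) k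
  have := S.is_maximal' (S.isPGroup'.to_sup_of_normal_right' (h.isPGroup_member ha) hle) le_sup_left
  exact this.le (mem_sup_right (mem_zpowers a))

end Cfg

end Cfsg.Agent.RootConn
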