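import Cfsg.Agent.Lib.RootConn.Blocks

/-!
A non-degenerate class of root involutions: connectivity, weak TI-subsets, generation.
-/

set_option autoImplicit false
set_option linter.style.haveILetI false
set_option linter.unusedSectionVars false

namespace Cfsg.Agent.RootConn

open Subgroup MulAction RootInvol

universe u

variable {G : Type u} [Group G] [Finite G] {D : Set G}

/-- A non-degenerate class. -/
structure Class (D : Set G) : Prop where
  nd : Cfsg.IsNondegenerateRootInvolutionSet D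
  cl : Cfsg.IsRootInvolutionClass D

namespace Class

variable (C : Class D)
include C

theorem hD : Cfsg.IsRootInvolutionSet D := C.nd.1

theorem conj {a b : G} (ha : a ∈ D) (hb : b ∈ D) : ∃ g : G, b = g * a * g⁻¹ := C.cl.2.2 a ha b hb

theorem exists_odd {d : G} (hd : d ∈ D) : ∃ e ∈ D, Odd2 d e := by
  obtain ⟨a, ha, b, hb, hne, ho⟩ := C.nd.2.2.1
  obtain ⟨g, rfl⟩ := C.conj ha hd
  exact ⟨g * b * g⁻¹, C.hD.conj_mem b hb g, (odd2_conj_iff g a b).2 ⟨hne, ho⟩⟩

theorem exists_four {d : G} (hd : d ∈ D) : ∃ e ∈ D, Four d e := by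
  obtain ⟨a, ha, b, hb, ho⟩ := C.nd.2.2.2
  obtain ⟨g, rfl⟩ := C.conj ha hd
  exact ⟨g * b * g⁻¹, C.hD.conj_mem b hb g, (four_conj_iff g a b).2 ho⟩

theorem exists_tri {d : G} (hd : d ∈ D) : ∃ b, Tri D d b := by
  obtain ⟨e, he, h4⟩ := C.exists_four hd
  exact ⟨_, (four_tri C.hD hd he h4).1⟩

/-- A nonempty part of the class invariant under the class is all of it. -/
theorem all_of_invariant {K : Set G} (hK : K ⊆ D) {a : G} (ha : a ∈ K)
    (hinv : ∀ d ∈ D, ∀ e ∈ K, d * e * d ∈ K) : D ⊆ K := by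
  have key : ∀ g : G, ∀ e ∈ K, g * e * g⁻¹ ∈ K ∧ g⁻¹ * e * g ∈ K := by
    intro g
    have hg : g ∈ Subgroup.closure D := C.hD.generates ▸ mem_top g
    induction hg using Subgroup.closure_induction with
    | mem t ht => exact fun s hs => by rw [inv_eq C.hD ht]; exact ⟨hinv t ht s hs, hinv t ht s hs⟩
    | one => exact fun s hs => by simpa using hs
    | mul x y _ _ hx hy => exact fun s hs => ⟨by simpa [mul_assoc] using (hx _ (hy s hs).1).1,
        by simpa [mul_assoc] using (hy _ (hx s hs).2).2⟩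
    | inv x _ hx => exact fun s hs => by simpa [and_comm] using hx s hs
  intro d hd
  obtain ⟨g, rfl⟩ := C.conj (hK ha) hd
  exact (key g a ha).1

theorem odd_connected : Cfsg.IsConnectedSet (Cfsg.OddAdj D) D := by
  intro a ha b hb
  refine (C.all_of_invariant (K := Cfsg.elemComponentOf (Cfsg.OddAdj D) D a) (fun e he => he.1)
    ⟨ha, Relation.ReflTransGen.refl⟩ ?_ hb).2
  intro d hd e he
  by_cases hda : d ∈ Cfsg.elemComponentOf (Cfsg.OddAdj D) D a
  · refine ⟨conj3 C.hD he.1 hd, hda.2.trans ?_⟩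
    have h1 : Relation.ReflTransGen (Cfsg.OddAdj D) (d * d * d) (d * e * d) := by
      refine ((reach_symm hda.2).trans he.2).lift (fun c => d * c * d) fun p q hpq => ?_
      exact ⟨conj3 C.hD hpq.1 hd, conj3 C.hD hpq.2.1 hd, (odd2_conj3 C.hD hd).2 hpq.2.2⟩
    rwa [mul_assoc, sq C.hD hd, mul_one] at h1
  · have hde : d * e = e * d := by
      rcases pair3 C.hD hd he.1 with h | h | h
      · exact h
      · exact absurd ⟨hd, he.2.trans (Relation.ReflTransGen.single ⟨he.1, hd, h.symm⟩)⟩ hda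
      · exfalso
        obtain ⟨z, hz, hzo⟩ := C.exists_odd hd
        obtain ⟨w, hw, hwo⟩ := C.exists_odd he.1
        have t1 := (four_tri C.hD hd he.1 h).2.2.1
        have t2 := (four_tri C.hD he.1 hd h.symm).2.2.1
        rw [four_sq_eq C.hD hd he.1 h] at t2
        have hni : ¬ Cfsg.IsIsolatedElem (Cfsg.OddAdj D) D ((d * e) ^ 2) := fun hi => by
          obtain ⟨w', hw', hwo'⟩ := C.exists_odd t1.right
          exact not_isolated_of_adj ⟨t1.right, hw', hwo'⟩ hi
        have h1 := (t1.comp_or_isolated C.hD (z := z) ⟨hd, hz, hzo⟩).resolve_right hni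
        have h2 := (t2.comp_or_isolated C.hD (z := w) ⟨he.1, hw, hwo⟩).resolve_right hni
        exact hda ⟨hd, he.2.trans (h2.2.trans (reach_symm h1.2))⟩
    rw [hde, mul_assoc, sq C.hD hd, mul_one]
    exact he

theorem prod_symm {a b : G} (h : Cfsg.ProdAdj D a b) : Cfsg.ProdAdj D b a :=
  ⟨h.2.1, h.1, h.2.2.1.symm, h.2.2.2.1.symm, h.2.2.2.1 ▸ h.2.2.2.2⟩

theorem prod_of_tri {a b : G} (t : Tri D a b) : Cfsg.ProdAdj D a b :=
  ⟨t.left, t.right, Tri.ne C.hD t, t.comm, t.mul_mem⟩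

theorem prod_reach_symm {a b : G} (h : Relation.ReflTransGen (Cfsg.ProdAdj D) a b) :
    Relation.ReflTransGen (Cfsg.ProdAdj D) b a := by
  induction h with
  | refl => exact Relation.ReflTransGen.refl
  | tail _ h2 ih => exact ih.head (C.prod_symm h2)

theorem prod_reach_conj (g : G) {a b : G} (h : Relation.ReflTransGen (Cfsg.ProdAdj D) a b) :
    Relation.ReflTransGen (Cfsg.ProdAdj D) (g * a * g⁻¹) (g * b * g⁻¹) := by
  refine h.lift (fun c => g * c * g⁻¹) fun p q hpq => ⟨C.hD.conj_mem p hpq.1 g, C.hD.conj_mem q hpq.2.1 g,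
    fun e => hpq.2.2.1 (by simpa using e), ?_, ?_⟩
  · exact (show Commute p q from hpq.2.2.2.1).map (MulAut.conj g)
  · rw [show g * p * g⁻¹ * (g * q * g⁻¹) = g * (p * q) * g⁻¹ by group]
    exact C.hD.conj_mem _ hpq.2.2.2.2 g

/-- The graph of triangles is connected. -/
theorem prod_connected : Cfsg.IsConnectedSet (Cfsg.ProdAdj D) D := by
  intro a₀ ha₀ b₀ hb₀
  by_contra hnc
  set S : G → G → Prop := Relation.ReflTransGen (Cfsg.ProdAdj D) with hS
  have four : ∀ a ∈ D, ∀ b ∈ D, Four a b → S a b := by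
    intro a ha b hb h4
    have t1 := (four_tri C.hD ha hb h4).2.2.1
    have t2 := (four_tri C.hD hb ha h4.symm).2.2.1
    rw [four_sq_eq C.hD ha hb h4] at t2
    exact (Relation.ReflTransGen.single (C.prod_of_tri t1)).trans
      (Relation.ReflTransGen.single (C.prod_symm (C.prod_of_tri t2)))
  have unif : ∀ a ∈ D, ∀ a' ∈ D, ∀ b ∈ D, S a a' → a * b = b * a → ¬ S a b → a' * b = b * a' := by
    intro a _ a' ha' b hb hp hab hn
    clear ha'
    induction hp with
    | refl => exact hab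
    | @tail p q hap hpq ih =>
      obtain ⟨hpD, hqD, -, hc, hm⟩ := hpq
      rcases pair3 C.hD hqD hb with h | h | h
      · exact h
      · exfalso
        have hbq : Odd2 b q := h.symm
        refine no_prod C.hD hbq.2 (fun e => hbq.1 ((mul_eq_one_iff_eq_inv.1 e).trans (inv_eq C.hD hqD)))
          (sq C.hD hpD) (ne_one C.hD hpD) ((show Commute b p from ih.symm).mul_left (show Commute q p from hc.symm))
          hb hm ?_
        rw [hc, ← mul_assoc]
      · exfalso
        exact hn ((hap.tail ⟨hpD, hqD, fun e => not_comm_of_four C.hD hqD hb h (by rw [← e]; exact ih), hc, hm⟩).trans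
          (four q hqD b hb h))
  refine Sys.false (D := D) (S := S) ⟨C.hD, fun a _ => Relation.ReflTransGen.refl, fun a b h => C.prod_reach_symm h,
    fun a b c => Relation.ReflTransGen.trans, fun g a b _ _ h => C.prod_reach_conj g h, four, unif,
    fun a ha => C.exists_tri ha, fun a b t => Relation.ReflTransGen.single (C.prod_of_tri t), ?_, ?_⟩
  · intro a ha
    obtain ⟨e, he, h4⟩ := C.exists_four ha
    exact ⟨e, he, four a ha e he h4, not_comm_of_four C.hD ha he h4⟩
  · by_contra hno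
    push Not at hno
    refine hnc (C.all_of_invariant (K := {e | e ∈ D ∧ S a₀ e}) (fun e he => he.1)
      ⟨ha₀, Relation.ReflTransGen.refl⟩ ?_ hb₀).2
    intro d hd e he
    by_cases hed : S e d
    · refine ⟨conj3 C.hD he.1 hd, he.2.trans (hed.trans ?_)⟩
      have := C.prod_reach_conj d (C.prod_reach_symm hed)
      rwa [mul_inv_cancel_right, inv_eq C.hD hd] at this
    · rw [← (hno e he.1 d hd).resolve_left hed, mul_assoc, sq C.hD hd, mul_one]
      exact he

end Class

/-- The elements permuting a set by conjugation. -/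
def setStab (T : Set G) : Subgroup G where
  carrier := {g | ∀ t, g * t * g⁻¹ ∈ T ↔ t ∈ T}
  mul_mem' {a b} ha hb t := by
    rw [show a * b * t * (a * b)⁻¹ = a * (b * t * b⁻¹) * a⁻¹ by group, ha, hb]
  one_mem' t := by simp
  inv_mem' {a} ha t := by
    rw [← ha (a⁻¹ * t * a⁻¹⁻¹), show a * (a⁻¹ * t * a⁻¹⁻¹) * a⁻¹ = t by group]

theorem cinj {g a b : G} (h : g * a * g⁻¹ = g * b * g⁻¹) : a = b := by simpa using h

section Weak

variable (hD : Cfsg.IsRootInvolutionSet D) {T : Set G} (hT : Cfsg.IsWeakTISubsetOfElements D T)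
include hD hT

theorem stab_of_meet {d t : G} (hd : d ∈ D) (ht : t ∈ T) (hm : d * t * d⁻¹ ∈ T) : d ∈ setStab T := by
  rcases hT.2.2.2 d hd with h | h
  · intro u
    constructor
    · intro hu
      rw [← h] at hu
      obtain ⟨w, hw, hwe⟩ := hu
      rw [← cinj (g := d) hwe]; exact hw
    · intro hu; rw [← h]; exact ⟨u, hu, rfl⟩
  · exact absurd hm (fun hm => Set.disjoint_left.1 h ⟨t, ht, rfl⟩ hm)

theorem stab_of_comm {d t : G} (hd : d ∈ D) (ht : t ∈ T) (hc : d * t = t * d) : d ∈ setStab T :=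
  stab_of_meet hD hT hd ht (by rw [hc, mul_inv_cancel_right]; exact ht)

theorem self_stab {t : G} (ht : t ∈ T) : t ∈ setStab T := stab_of_comm hD hT (hT.1 ht) ht rfl

theorem mem_of_odd {a b : G} (ha : a ∈ T) (hb : b ∈ D) (hbs : b ∈ setStab T) (ho : Odd2 a b) : b ∈ T := by
  obtain ⟨g, hg, hge⟩ := Invol.conj_of_odd (hD.orderOf_eq a (hT.1 ha)) (hD.orderOf_eq b hb) ho.2
  have hgN : g ∈ setStab T := (Subgroup.closure_le _).2
    (by rintro _ (rfl | rfl); exacts [self_stab hD hT ha, hbs]) hg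
  rw [← hge]
  exact (hgN a).2 ha

theorem weak_translate (g : G) : Cfsg.IsWeakTISubsetOfElements D ((fun t => g * t * g⁻¹) '' T) := by
  obtain ⟨h1, ⟨a, ha, b, hb, hab⟩, h3, h4⟩ := hT
  refine ⟨?_, ⟨_, ⟨a, ha, rfl⟩, _, ⟨b, hb, rfl⟩, fun e => hab (cinj (g := g) e)⟩, fun e => h3 ?_, ?_⟩
  · rintro _ ⟨t, ht, rfl⟩; exact hD.conj_mem t (h1 ht) g
  · refine Set.Subset.antisymm h1 fun d hd => ?_
    obtain ⟨t, ht, hte⟩ : g * d * g⁻¹ ∈ (fun t => g * t * g⁻¹) '' T := e ▸ hD.conj_mem d hd g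
    rw [← cinj (g := g) hte]; exact ht
  · intro d hd
    have hd' : g⁻¹ * d * g ∈ D := by simpa using hD.conj_mem d hd g⁻¹
    have e : (fun t => d * t * d⁻¹) '' ((fun t => g * t * g⁻¹) '' T) =
        (fun t => g * t * g⁻¹) '' ((fun t => g⁻¹ * d * g * t * (g⁻¹ * d * g)⁻¹) '' T) := by
      rw [Set.image_image, Set.image_image]
      exact Set.image_congr fun t _ => by group
    rw [e]
    rcases h4 _ hd' with h | h
    · exact Or.inl (by rw [h])
    · exact Or.inr ((Set.disjoint_image_iff fun a b e => cinj (g := g) e).2 h)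

end Weak

namespace Class

variable (C : Class D)
include C

/-- No weak TI-subset has odd partners everywhere. -/
theorem no_all_odd {T : Set G} (hT : Cfsg.IsWeakTISubsetOfElements D T) (hp : ∀ t ∈ T, ∃ z ∈ T, Odd2 t z) :
    False := by
  have closed : ∀ p ∈ T, ∀ b, Tri D p b → b ∈ T := by
    intro p hpT b tpb
    by_contra hbT
    have hbN := stab_of_comm C.hD hT tpb.right hpT tpb.comm.symm
    obtain ⟨g, hg⟩ := C.conj tpb.left tpb.right
    set T' := (fun t => g * t * g⁻¹) '' T with hT'def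
    have hT' := weak_translate C.hD hT g
    have hbT' : b ∈ T' := ⟨p, hpT, hg.symm⟩
    obtain ⟨z, hz, hpz⟩ := hp p hpT
    set y := g * z * g⁻¹ with hy
    have hyT' : y ∈ T' := ⟨z, hz, rfl⟩
    have hby : Odd2 b y := by rw [hg]; exact (odd2_conj_iff g p z).2 hpz
    have hT1 : ∀ t ∈ T, t ∈ setStab T' := by
      intro t ht
      rcases pair3 C.hD tpb.right (hT.1 ht) with h | h | h
      · exact stab_of_comm C.hD hT' (hT.1 ht) hbT' h.symm
      · exact absurd (mem_of_odd C.hD hT ht tpb.right hbN h.symm) hbT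
      · obtain ⟨-, -, ts, hbs⟩ := four_tri C.hD tpb.right (hT.1 ht) h
        have hsN : (b * t) ^ 2 ∈ setStab T' := stab_of_comm C.hD hT' ts.right hbT' ts.comm.symm
        rcases ts.key C.hD (hT'.1 hyT') hby.symm with h1 | h1
        · refine stab_of_comm C.hD hT' (hT.1 ht) (mem_of_odd C.hD hT' hyT' ts.right hsN h1) ?_
          have := four_comm_sq C.hD (hT.1 ht) tpb.right h.symm
          rwa [four_sq_eq C.hD tpb.right (hT.1 ht) h] at this
        · refine stab_of_meet C.hD hT' (hT.1 ht) hbT' ?_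
          rw [inv_eq C.hD (hT.1 ht), ← hbs]
          exact mem_of_odd C.hD hT' hyT' ts.mul_mem (mul_mem (self_stab C.hD hT' hbT') hsN) h1
    by_cases hsub : T ⊆ T'
    · have : T = T' := Set.eq_of_subset_of_ncard_le hsub (Set.ncard_image_le (Set.toFinite _)) (Set.toFinite _)
      exact hbT (this.symm ▸ hbT')
    obtain ⟨t, ht, htT'⟩ := Set.not_subset.1 hsub
    have hyN : y ∈ setStab T := by
      rcases pair3 C.hD (hT.1 ht) (hT'.1 hyT') with h | h | h
      · exact stab_of_comm C.hD hT (hT'.1 hyT') ht h.symm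
      · exact absurd (mem_of_odd C.hD hT' hyT' (hT.1 ht) (hT1 t ht) h.symm) htT'
      · obtain ⟨-, -, ts, hys⟩ := four_tri C.hD (hT.1 ht) (hT'.1 hyT') h
        have hsN : (t * y) ^ 2 ∈ setStab T := stab_of_comm C.hD hT ts.right ht ts.comm.symm
        obtain ⟨w, hw, htw⟩ := hp t ht
        rcases ts.key C.hD (hT.1 hw) htw.symm with h1 | h1
        · refine stab_of_comm C.hD hT (hT'.1 hyT') (mem_of_odd C.hD hT hw ts.right hsN h1) ?_
          have := four_comm_sq C.hD (hT'.1 hyT') (hT.1 ht) h.symm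
          rwa [four_sq_eq C.hD (hT.1 ht) (hT'.1 hyT') h] at this
        · refine stab_of_meet C.hD hT (hT'.1 hyT') ht ?_
          rw [inv_eq C.hD (hT'.1 hyT'), ← hys]
          exact mem_of_odd C.hD hT hw ts.mul_mem (mul_mem (self_stab C.hD hT ht) hsN) h1
    have hcT : p * b ∈ T := by
      rcases tpb.key C.hD (hT.1 hz) hpz.symm with h1 | h1
      · exact absurd (mem_of_odd C.hD hT hz tpb.right hbN h1) hbT
      · exact mem_of_odd C.hD hT hz tpb.mul_mem (mul_mem (self_stab C.hD hT hpT) hbN) h1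
    have hyT : y ∈ T := by
      rcases tpb.key' C.hD (hT'.1 hyT') hby.symm with h1 | h1
      · exact mem_of_odd C.hD hT hpT (hT'.1 hyT') hyN h1.symm
      · exact mem_of_odd C.hD hT hcT (hT'.1 hyT') hyN h1.symm
    exact hbT (mem_of_odd C.hD hT hyT tpb.right hbN hby.symm)
  obtain ⟨a, ha, -⟩ := hT.2.1
  refine hT.2.2.1 (Set.Subset.antisymm hT.1 fun d hd => ?_)
  have h := C.prod_connected a (hT.1 ha) d hd
  clear hd
  induction h with
  | refl => exact ha
  | tail _ hpq ih => exact closed _ ih _ ⟨hpq.1, hpq.2.1, hpq.2.2.2.1, hpq.2.2.2.2⟩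

/-- No member stabilising a weak TI-subset is an odd partner of one of its members. -/
theorem no_odd {T : Set G} (hT : Cfsg.IsWeakTISubsetOfElements D T) {t a : G} (ht : t ∈ T) (ha : a ∈ D)
    (has : a ∈ setStab T) (ho : Odd2 t a) : False := by
  have haT := mem_of_odd C.hD hT ht ha has ho
  set T₀ : Set G := {p | p ∈ T ∧ ∃ z ∈ T, Odd2 p z}
  have hinv : ∀ g ∈ setStab T, ∀ p ∈ T₀, g * p * g⁻¹ ∈ T₀ := fun g hg p hp => by
    obtain ⟨z, hz, hzo⟩ := hp.2
    exact ⟨(hg p).2 hp.1, g * z * g⁻¹, (hg z).2 hz, (odd2_conj_iff g p z).2 hzo⟩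
  refine C.no_all_odd (T := T₀) ⟨fun p hp => hT.1 hp.1, ⟨t, ⟨ht, a, haT, ho⟩, a, ⟨haT, t, ht, ho.symm⟩, ho.1⟩,
    fun e => hT.2.2.1 (Set.Subset.antisymm hT.1 fun d hd => ((e.symm ▸ hd : d ∈ T₀)).1), fun d hd => ?_⟩
    fun p hp => ?_
  · by_cases hdN : d ∈ setStab T
    · refine Or.inl (Set.Subset.antisymm ?_ fun p hp => ⟨d⁻¹ * p * d⁻¹⁻¹, hinv _ (inv_mem hdN) p hp, by group⟩)
      rintro _ ⟨p, hp, rfl⟩
      exact hinv d hdN p hp
    · refine Or.inr (Set.disjoint_left.2 ?_)
      rintro _ ⟨p, hp, rfl⟩ hm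
      exact hdN (stab_of_meet C.hD hT hd hp.1 hm.1)
  · obtain ⟨hpT, z, hz, hzo⟩ := hp
    exact ⟨z, ⟨hz, p, hpT, hzo.symm⟩, hzo⟩

/-- The members of a weak TI-subset commute. -/
theorem weak_comm {T : Set G} (hT : Cfsg.IsWeakTISubsetOfElements D T) {t z : G} (ht : t ∈ T) (hz : z ∈ T) :
    t * z = z * t := by
  have hD := C.hD
  have htD := hT.1 ht
  have hzD := hT.1 hz
  rcases pair3 hD htD hzD with h | h | h
  · exact h
  · exact (C.no_odd hT ht hzD (self_stab hD hT hz) h).elim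
  exfalso
  obtain ⟨-, -, tts, hts⟩ := four_tri hD htD hzD h
  obtain ⟨-, -, tzs, -⟩ := four_tri hD hzD htD h.symm
  rw [four_sq_eq hD htD hzD h] at tzs
  set s := (t * z) ^ 2 with hs
  have hne : Cfsg.commutingMembers D s ≠ Cfsg.commutingMembers D z := fun e =>
    not_comm_of_four hD htD hzD h (e ▸ (⟨htD, tts.comm⟩ : t ∈ Cfsg.commutingMembers D s) :
      t ∈ Cfsg.commutingMembers D z).2
  obtain ⟨γ, hγ, f2, e2⟩ := exists_pre hD C.odd_connected tzs.symm hne
  have hγz : γ * z = z * γ := by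
    have := four_comm_sq hD hγ tzs.right f2.symm
    rwa [four_sq_eq hD tzs.right hγ f2, e2] at this
  refine C.no_odd hT ht hγ (stab_of_comm hD hT hγ hz hγz) ?_
  rcases pair3 hD htD hγ with h1 | h1 | h1
  · exact absurd (((show Commute t γ from h1).mul_left (show Commute z γ from hγz.symm)).pow_left 2).eq
      (not_comm_of_four hD tzs.right hγ f2)
  · exact h1
  exfalso
  have hs2 := sq hD tzs.right
  have hγs : γ * s * γ = s * z := by
    rw [← e2]; simp only [pow_two, mul_assoc, cancel hD tzs.right]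
  have htz : t * z * t = s * z := by
    rw [hs]; simp only [pow_two, mul_assoc, sq hD hzD, mul_one]
  have htst : t * s * t = s := by rw [tts.comm, mul_assoc, sq hD htD, mul_one]
  have hinv : (t * γ)⁻¹ = γ * t := by rw [mul_inv_rev, inv_eq hD htD, inv_eq hD hγ]
  have c1 : t * γ * s * (t * γ)⁻¹ = z := by
    rw [hinv, show t * γ * s * (γ * t) = t * (γ * s * γ) * t by simp only [mul_assoc], hγs,
      show t * (s * z) * t = t * s * t * (t * z * t) by simp only [mul_assoc, cancel hD htD], htst, htz,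
      ← mul_assoc, hs2, one_mul]
  have c2 : t * γ * z * (t * γ)⁻¹ = s * z := by
    rw [hinv, show t * γ * z * (γ * t) = t * (γ * z * γ) * t by simp only [mul_assoc], hγz, mul_assoc z,
      sq hD hγ, mul_one, htz]
  have c3 : t * γ * (s * z) * (t * γ)⁻¹ = s := by
    rw [show t * γ * (s * z) * (t * γ)⁻¹ = (t * γ * s * (t * γ)⁻¹) * (t * γ * z * (t * γ)⁻¹) by group, c1, c2,
      ← mul_assoc, tzs.comm, mul_assoc, sq hD hzD, mul_one]
  have p4 : (t * γ) ^ 4 * s * ((t * γ) ^ 4)⁻¹ = z := by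
    calc (t * γ) ^ 4 * s * ((t * γ) ^ 4)⁻¹
        = t * γ * (t * γ * (t * γ * (t * γ * s * (t * γ)⁻¹) * (t * γ)⁻¹) * (t * γ)⁻¹) * (t * γ)⁻¹ := by
          simp only [pow_succ, pow_zero, one_mul, mul_inv_rev, mul_assoc]
      _ = z := by rw [c1, c2, c3, c1]
  rw [show (t * γ) ^ 4 = 1 by rw [← show orderOf (t * γ) = 4 from h1]; exact pow_orderOf_eq_one _] at p4
  simp only [one_mul, inv_one, mul_one] at p4
  exact Tri.ne hD tzs p4.symm

/-- An odd partner and the triangles on a member generate. -/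
theorem generates {d x : G} (hd : d ∈ D) (hx : x ∈ D) (ho : Odd2 d x) :
    Subgroup.closure (Cfsg.productPartners D d ∪ {x}) = ⊤ := by
  haveI : Fact (Nat.Prime 2) := ⟨Nat.prime_two⟩
  have hD := C.hD
  set H := Subgroup.closure (Cfsg.productPartners D d ∪ {x}) with hH
  have hX : ∀ b, Tri D d b → b ∈ H := fun b t => Subgroup.subset_closure (Or.inl
    ⟨⟨t.right, t.comm.symm, (Tri.ne hD t).symm⟩, t.comm ▸ t.mul_mem⟩)
  have hxH : x ∈ H := Subgroup.subset_closure (Or.inr rfl)
  have hdH : d ∈ H := by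
    obtain ⟨b, t⟩ := C.exists_tri hd
    have := mul_mem (hX _ (Tri.third hD t)) (hX b t)
    rwa [mul_assoc, sq hD t.right, mul_one] at this
  set P : Set G := {p | ∃ h ∈ H, h * d * h⁻¹ = p}
  have odd_mem : ∀ {p q : G}, p ∈ P → p ∈ D → p ∈ H → q ∈ D → q ∈ H → Odd2 p q → q ∈ P := by
    rintro p q ⟨k, hk, rfl⟩ hpD hpH hqD hqH hpq
    obtain ⟨g, hg, hge⟩ := Invol.conj_of_odd (hD.orderOf_eq _ hpD) (hD.orderOf_eq q hqD) hpq.2
    refine ⟨g * k, mul_mem ((Subgroup.closure_le _).2 (by rintro _ (rfl | rfl); exacts [hpH, hqH]) hg) hk, ?_⟩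
    rw [← hge]; group
  have hdP : d ∈ P := ⟨1, one_mem _, by group⟩
  have hxP : x ∈ P := odd_mem hdP hd hdH hx hxH ho
  have partner : ∀ q, Tri D d q → q ∈ P := by
    intro q t
    by_contra hq
    have hqH := hX q t
    have hdq : d * q ∈ P := by
      rcases t.key hD hx ho.symm with h | h
      · exact absurd (odd_mem hxP hx hxH t.right hqH h) hq
      · exact odd_mem hxP hx hxH t.mul_mem (mul_mem hdH hqH) h
    have hno : ∀ w ∈ D, w ∈ H → ¬ Odd2 w q := by
      intro w hw hwH hwq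
      have hwP : w ∈ P := by
        rcases t.key' hD hw hwq with h | h
        · exact odd_mem hdP hd hdH hw hwH h.symm
        · exact odd_mem hdq t.mul_mem (mul_mem hdH hqH) hw hwH h.symm
      exact hq (odd_mem hwP hw hwH t.right hqH hwq)
    have hne : Cfsg.commutingMembers D q ≠ Cfsg.commutingMembers D d := fun e => by
      have hm : x ∈ Cfsg.oddPartners D q := by
        rw [A_eq_of_comm hD C.odd_connected t.right hd e]; exact mem_A.2 ⟨hx, ho⟩
      exact hno x hx hxH (mem_A.1 hm).2.symm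
    obtain ⟨v, hv, hqv, hsq⟩ := exists_pre hD C.odd_connected t.symm hne
    obtain ⟨-, -, tvs, hvs⟩ := four_tri hD hv t.right hqv.symm
    rw [four_sq_eq hD t.right hv hqv, hsq] at tvs
    have hvH : v ∈ H := hX v tvs.symm
    have hqcore : (⟨q, hqH⟩ : H) ∈ Cfsg.pCore 2 H := by
      refine mem_pCore_two (by rw [Subgroup.orderOf_mk]; exact hD.orderOf_eq q t.right) fun k => Subtype.ext ?_
      have hm : (k : G) * q * (k : G)⁻¹ ∈ D := hD.conj_mem q t.right k
      have := pow_four_of_not_odd2 hD t.right hm fun h =>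
        hno _ hm (mul_mem (mul_mem k.2 hqH) (inv_mem k.2)) h.symm
      simpa using this
    haveI := PBasic.pCore_characteristic 2 H
    have hn : (Cfsg.pCore 2 H).Normal := inferInstance
    have hdc : (⟨d, hdH⟩ : H) ∈ Cfsg.pCore 2 H := by
      have e : (⟨d, hdH⟩ : H) = ⟨q, hqH⟩ * (⟨v, hvH⟩ * ⟨q, hqH⟩ * ⟨v, hvH⟩⁻¹) := Subtype.ext (by
        show d = q * (v * q * v⁻¹)
        rw [inv_eq hD hv, ← hsq, pow_two]; simp only [mul_assoc])
      rw [e]; exact mul_mem hqcore (hn.conj_mem _ hqcore _)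
    have hdx : (⟨d, hdH⟩ : H) * (⟨x, hxH⟩ * ⟨d, hdH⟩ * ⟨x, hxH⟩⁻¹) ∈ Cfsg.pCore 2 H :=
      mul_mem hdc (hn.conj_mem _ hdc _)
    obtain ⟨j, hj⟩ := PBasic.pCore_isPGroup 2 H ⟨_, hdx⟩
    have h2 : (d * x) ^ (2 ^ (j + 1)) = 1 := by
      rw [pow_succ', pow_mul]
      have := congrArg (fun w : Cfsg.pCore 2 H => ((w : H) : G)) hj
      simpa [pow_two, inv_eq hD hx, mul_assoc] using this
    exact ho.1 ((mul_eq_one_iff_eq_inv.1 (eq_one_of_odd_of_two_pow ho.2 _ h2)).trans (inv_eq hD hx))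
  have hall : ∀ p ∈ D, p ∈ H := by
    intro p hp
    have h := C.prod_connected d hd p hp
    have key : p ∈ P := by
      clear hp
      induction h with
      | refl => exact hdP
      | tail _ hpq ih =>
        obtain ⟨k, hk, rfl⟩ := ih
        obtain ⟨h1, h2, -, h4, h5⟩ := hpq
        rename_i q _
        have t' : Tri D d (k⁻¹ * q * k) := by
          refine ⟨hd, by simpa using hD.conj_mem q h2 k⁻¹, ?_, ?_⟩
          · have := (show Commute (k * d * k⁻¹) q from h4).map (MulAut.conj k⁻¹)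
            simp only [MulAut.conj_apply] at this
            simpa [mul_assoc] using this.eq
          · have := hD.conj_mem _ h5 k⁻¹
            simpa [mul_assoc] using this
        obtain ⟨l, hl, hle⟩ := partner _ t'
        exact ⟨k * l, mul_mem hk hl, by
          rw [show k * l * d * (k * l)⁻¹ = k * (l * d * l⁻¹) * k⁻¹ by group, hle]; group⟩
    obtain ⟨k, hk, rfl⟩ := key
    exact mul_mem (mul_mem hk hdH) (inv_mem hk)
  rw [eq_top_iff, ← hD.generates, Subgroup.closure_le]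
  exact hall

end Class

end Cfsg.Agent.RootConn
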